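import Mathlib
import Cfsg.Prelude.Def_LieExceptional
import Cfsg.Agent.Lib.Perm.ZassenhausAbelian
import Cfsg.Agent.S0341

/-!
The Zassenhaus subgroup `UF ∪ UFtU` inside a normal subgroup of a group with an abelian regular normal subgroup of a
point stabiliser.
-/

set_option autoImplicit false
set_option linter.unusedSectionVars false
set_option linter.style.haveILetI false

namespace CfsgLib.BannaiThree

open MulAction

universe u v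

/-- The configuration: `U` is regular on the points other than `a`, `F` semiregular in `H_{ab}`. -/
structure Config (G : Type u) (Ω : Type v) [Group G] [MulAction G Ω] where
  H : Subgroup G
  hH : H.Normal
  a : Ω
  b : Ω
  hab : a ≠ b
  U : Subgroup G
  hUH : U ≤ H
  hUa : U ≤ stabilizer G a
  hUn : ∀ g ∈ stabilizer G a, ∀ u ∈ U, g * u * g⁻¹ ∈ U
  hUab : ∀ x ∈ U, ∀ y ∈ U, x * y = y * x
  hreg : ∀ y z : Ω, y ≠ a → z ≠ a → ∃! u : U, (u : G) • y = z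
  F : Subgroup G
  hFH : F ≤ H
  hFa : F ≤ stabilizer G a
  hFb : F ≤ stabilizer G b
  hFc : IsCyclic F
  hFn : ∀ g : G, (g • a = a ∧ g • b = b ∨ g • a = b ∧ g • b = a) → ∀ f ∈ F, g * f * g⁻¹ ∈ F
  hsemi : ∀ f ∈ F, ∀ c : Ω, c ≠ a → c ≠ b → f • c = c → f = 1
  hself : ∀ d ∈ H, d • a = a → d • b = b → (∀ f ∈ F, d * f = f * d) → d ∈ F
  hsq : ∀ g : G, g • a = a → g • b = b → (∀ f ∈ F, g * g * f = f * (g * g)) → ∀ f ∈ F, g * f = f * g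
  htr : ∀ x ∈ U, ∀ y ∈ U, x ≠ 1 → y ≠ 1 → ∃ g : G, g • a = a ∧ g • b = b ∧ g * x * g⁻¹ = y
  t : G
  htH : t ∈ H
  ht2 : t * t = 1
  hta : t • a = b
  htb : t • b = a

namespace Config

variable {G : Type u} {Ω : Type v} [Group G] [MulAction G Ω] (C : Config G Ω)

theorem t_inv : C.t⁻¹ = C.t := inv_eq_of_mul_eq_one_right C.ht2

theorem tt (x : G) : C.t * (C.t * x) = x := by rw [← mul_assoc, C.ht2, one_mul]

theorem u_fix {u : G} (hu : u ∈ C.U) : u • C.a = C.a := C.hUa hu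

theorem u_smul_ne {u : G} (hu : u ∈ C.U) {c : Ω} (hc : c ≠ C.a) : u • c ≠ C.a := fun e => by
  rw [← C.u_fix hu, smul_left_cancel_iff] at e
  exact hc e

theorem u_eq {u u' : G} (hu : u ∈ C.U) (hu' : u' ∈ C.U) {c : Ω} (hc : c ≠ C.a) (e : u • c = u' • c) : u = u' := by
  obtain ⟨w, -, hw⟩ := C.hreg c (u' • c) hc (C.u_smul_ne hu' hc)
  exact congrArg Subtype.val ((hw ⟨u, hu⟩ e).trans (hw ⟨u', hu'⟩ rfl).symm)

theorem exists_u {c : Ω} (hc : c ≠ C.a) : ∃ u ∈ C.U, u • C.b = c := by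
  obtain ⟨u, hu, -⟩ := C.hreg C.b c C.hab.symm hc
  exact ⟨u, u.2, hu⟩

/-- Commutators of elements normalising the cyclic group `F` centralise it. -/
theorem comm_centralizes {x y : G} (hx : x • C.a = C.a ∧ x • C.b = C.b ∨ x • C.a = C.b ∧ x • C.b = C.a)
    (hy : y • C.a = C.a ∧ y • C.b = C.b ∨ y • C.a = C.b ∧ y • C.b = C.a) :
    ∀ f ∈ C.F, x * y * x⁻¹ * y⁻¹ * f = f * (x * y * x⁻¹ * y⁻¹) := by
  haveI := C.hFc
  obtain ⟨g, hg⟩ := IsCyclic.exists_generator (α := C.F)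
  have hgen : ∀ f ∈ C.F, ∃ i : ℤ, (g : G) ^ i = f := fun f hf => by
    obtain ⟨i, hi⟩ := Subgroup.mem_zpowers_iff.mp (hg ⟨f, hf⟩)
    exact ⟨i, by simpa using congrArg Subtype.val hi⟩
  have hinv : ∀ z : G, (z • C.a = C.a ∧ z • C.b = C.b ∨ z • C.a = C.b ∧ z • C.b = C.a) →
      (z⁻¹ • C.a = C.a ∧ z⁻¹ • C.b = C.b ∨ z⁻¹ • C.a = C.b ∧ z⁻¹ • C.b = C.a) := by
    intro z hz
    simp only [inv_smul_eq_iff]
    rcases hz with ⟨h1, h2⟩ | ⟨h1, h2⟩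
    · exact Or.inl ⟨h1.symm, h2.symm⟩
    · exact Or.inr ⟨h2.symm, h1.symm⟩
  obtain ⟨i, hi⟩ := hgen _ (C.hFn x⁻¹ (hinv x hx) g g.2)
  obtain ⟨j, hj⟩ := hgen _ (C.hFn y⁻¹ (hinv y hy) g g.2)
  have e1 : (x⁻¹ * y⁻¹) * g * (x⁻¹ * y⁻¹)⁻¹ = (g : G) ^ (i * j) := by
    calc (x⁻¹ * y⁻¹) * g * (x⁻¹ * y⁻¹)⁻¹ = x⁻¹ * (y⁻¹ * g * y⁻¹⁻¹) * x⁻¹⁻¹ := by group
      _ = (x⁻¹ * g * x⁻¹⁻¹) ^ j := by rw [← hj, conj_zpow]
      _ = _ := by rw [← hi, ← zpow_mul]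
  have e2 : (y⁻¹ * x⁻¹) * g * (y⁻¹ * x⁻¹)⁻¹ = (g : G) ^ (i * j) := by
    calc (y⁻¹ * x⁻¹) * g * (y⁻¹ * x⁻¹)⁻¹ = y⁻¹ * (x⁻¹ * g * x⁻¹⁻¹) * y⁻¹⁻¹ := by group
      _ = (y⁻¹ * g * y⁻¹⁻¹) ^ i := by rw [← hi, conj_zpow]
      _ = _ := by rw [← hj, ← zpow_mul, mul_comm]
  have hc : x * y * x⁻¹ * y⁻¹ * g = g * (x * y * x⁻¹ * y⁻¹) := by
    calc x * y * x⁻¹ * y⁻¹ * g = x * y * ((x⁻¹ * y⁻¹) * g * (x⁻¹ * y⁻¹)⁻¹) * x⁻¹ * y⁻¹ := by group
      _ = x * y * ((y⁻¹ * x⁻¹) * g * (y⁻¹ * x⁻¹)⁻¹) * x⁻¹ * y⁻¹ := by rw [e1, e2]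
      _ = g * (x * y * x⁻¹ * y⁻¹) := by group
  intro f hf
  obtain ⟨k, rfl⟩ := hgen f hf
  exact ((show Commute _ _ from hc).zpow_right k).eq

/-- `a` and `b` are fixed. -/
def Fix2 (d : G) : Prop := d • C.a = C.a ∧ d • C.b = C.b

theorem t_conj_fix2 {d : G} (hd : C.Fix2 d) : C.Fix2 (C.t * d * C.t) := by
  refine ⟨?_, ?_⟩
  · rw [mul_smul, mul_smul, C.hta, hd.2, C.htb]
  · rw [mul_smul, mul_smul, C.htb, hd.1, C.hta]

/-- The commutator of `t` with an element of `H_{ab}` lies in `F`. -/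
theorem t_comm {d : G} (hdH : d ∈ C.H) (hd : C.Fix2 d) : C.t * d * C.t * d⁻¹ ∈ C.F := by
  have hd' := C.t_conj_fix2 hd
  have hfix : C.Fix2 (C.t * d * C.t * d⁻¹) :=
    ⟨by rw [mul_smul, inv_smul_eq_iff.mpr hd.1.symm, hd'.1],
      by rw [mul_smul, inv_smul_eq_iff.mpr hd.2.symm, hd'.2]⟩
  refine C.hself _ (mul_mem (mul_mem (mul_mem C.htH hdH) C.htH) (inv_mem hdH)) hfix.1 hfix.2 fun f hf => ?_
  have := C.comm_centralizes (x := C.t) (y := d) (Or.inr ⟨C.hta, C.htb⟩) (Or.inl hd) f hf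
  rwa [C.t_inv] at this

/-- The commutator of two elements fixing `a` and `b`, one in `H`, lies in `F`. -/
theorem fix_comm {g d : G} (hg : C.Fix2 g) (hdH : d ∈ C.H) (hd : C.Fix2 d) : g * d * g⁻¹ * d⁻¹ ∈ C.F := by
  have hfix : C.Fix2 (g * d * g⁻¹ * d⁻¹) :=
    ⟨by rw [mul_smul, mul_smul, mul_smul, inv_smul_eq_iff.mpr hd.1.symm, inv_smul_eq_iff.mpr hg.1.symm, hd.1, hg.1],
      by rw [mul_smul, mul_smul, mul_smul, inv_smul_eq_iff.mpr hd.2.symm, inv_smul_eq_iff.mpr hg.2.symm, hd.2, hg.2]⟩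
  exact C.hself _ (mul_mem (C.hH.conj_mem d hdH g) (inv_mem hdH)) hfix.1 hfix.2
    (C.comm_centralizes (Or.inl hg) (Or.inl hd))

/-- A conjugate of `t` by an element fixing `a` and `b` lies in `F t`. -/
theorem t_moved {g : G} (hg : C.Fix2 g) : g * C.t * g⁻¹ * C.t ∈ C.F := by
  have hfix : C.Fix2 (g * C.t * g⁻¹ * C.t) := by
    refine ⟨?_, ?_⟩
    · rw [mul_smul, mul_smul, mul_smul, C.hta, inv_smul_eq_iff.mpr hg.2.symm, C.htb, hg.1]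
    · rw [mul_smul, mul_smul, mul_smul, C.htb, inv_smul_eq_iff.mpr hg.1.symm, C.hta, hg.2]
  refine C.hself _ (mul_mem (C.hH.conj_mem _ C.htH g) C.htH) hfix.1 hfix.2 fun f hf => ?_
  have := C.comm_centralizes (x := g) (y := C.t) (Or.inl hg) (Or.inr ⟨C.hta, C.htb⟩) f hf
  rwa [C.t_inv] at this

/-- `t u t = u₁ t d u₂`. -/
def Rel (u d : G) : Prop :=
  d ∈ C.H ∧ C.Fix2 d ∧ ∃ u₁ ∈ C.U, ∃ u₂ ∈ C.U, C.t * u * C.t = u₁ * C.t * d * u₂

theorem exists_rel {u : G} (hu : u ∈ C.U) (hu1 : u ≠ 1) : ∃ d, C.Rel u d := by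
  have hub : u • C.b ≠ C.b := fun e => hu1 (C.u_eq hu (one_mem _) C.hab.symm (by rw [e, one_smul]))
  set h := C.t * u * C.t with hh
  have hne : h • C.a ≠ C.a := by
    rw [hh, mul_smul, mul_smul, C.hta]
    intro e
    exact hub (smul_left_cancel C.t (e.trans C.htb.symm))
  obtain ⟨u₁, hu₁, e₁⟩ := C.exists_u hne
  set k := C.t * (u₁⁻¹ * h) with hk
  have hka : k • C.a = C.a := by rw [hk, mul_smul, mul_smul, ← e₁, inv_smul_smul, C.htb]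
  have hkH : k ∈ C.H := mul_mem C.htH (mul_mem (inv_mem (C.hUH hu₁))
    (mul_mem (mul_mem C.htH (C.hUH hu)) C.htH))
  have hkb : k • C.b ≠ C.a := fun e => C.hab.symm (smul_left_cancel k (e.trans hka.symm))
  obtain ⟨u₀, hu₀, e₀⟩ := C.exists_u hkb
  have hd : C.Fix2 (u₀⁻¹ * k) :=
    ⟨by rw [mul_smul, hka, inv_smul_eq_iff, C.u_fix hu₀], by rw [mul_smul, inv_smul_eq_iff, e₀]⟩
  refine ⟨u₀⁻¹ * k, mul_mem (inv_mem (C.hUH hu₀)) hkH, hd, u₁, hu₁,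
    (u₀⁻¹ * k)⁻¹ * u₀ * (u₀⁻¹ * k), ?_, ?_⟩
  · simpa using C.hUn (u₀⁻¹ * k)⁻¹ (inv_mem (show u₀⁻¹ * k ∈ stabilizer G C.a from hd.1)) u₀ hu₀
  · calc h = u₁ * (C.t * k) := by rw [hk, C.tt, mul_inv_cancel_left]
      _ = _ := by group

theorem rel_unique {u d d' : G} (h : C.Rel u d) (h' : C.Rel u d') : d = d' := by
  obtain ⟨-, hd, u₁, hu₁, u₂, hu₂, e⟩ := h
  obtain ⟨-, hd', v₁, hv₁, v₂, hv₂, e'⟩ := h'
  rw [e] at e'
  have hub : u₁ • C.b = v₁ • C.b := by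
    have h1 := congrArg (· • C.a) e'
    simp only [mul_smul, C.u_fix hu₂, C.u_fix hv₂, hd.1, hd'.1, C.hta] at h1
    exact h1
  obtain rfl := C.u_eq hu₁ hv₁ C.hab.symm hub
  have e2 : d * u₂ = d' * v₂ := by
    rw [mul_assoc (u₁ * C.t), mul_assoc (u₁ * C.t)] at e'
    exact mul_left_cancel e'
  have e3 : d'⁻¹ * d = v₂ * u₂⁻¹ := by
    calc d'⁻¹ * d = d'⁻¹ * (d * u₂) * u₂⁻¹ := by group
      _ = v₂ * u₂⁻¹ := by rw [e2]; group
  have hb : (d'⁻¹ * d) • C.b = C.b := by rw [mul_smul, hd.2, inv_smul_eq_iff, hd'.2]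
  have h1 : v₂ * u₂⁻¹ = 1 := C.u_eq (mul_mem hv₂ (inv_mem hu₂)) (one_mem _) C.hab.symm (by
    rw [← e3, hb, one_smul])
  rw [h1] at e3
  exact (inv_mul_eq_one.mp e3).symm

/-- The class of `d` modulo `F` is invariant. -/
theorem rel_conj {u d g : G} (h : C.Rel u d) (hg : C.Fix2 g) :
    ∃ d', C.Rel (g * u * g⁻¹) d' ∧ d' * d⁻¹ ∈ C.F := by
  obtain ⟨hdH, hd, u₁, hu₁, u₂, hu₂, e⟩ := h
  -- write `g t g⁻¹ = f t`
  set f := g * C.t * g⁻¹ * C.t with hf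
  have hfF : f ∈ C.F := C.t_moved hg
  have hgt : g * C.t * g⁻¹ = f * C.t := by rw [hf, mul_assoc _ C.t C.t, C.ht2, mul_one]
  set d₀ := g * d * g⁻¹ with hd₀
  have hd₀f : C.Fix2 d₀ := by
    constructor <;> rw [hd₀, mul_smul, mul_smul]
    · rw [inv_smul_eq_iff.mpr hg.1.symm, hd.1, hg.1]
    · rw [inv_smul_eq_iff.mpr hg.2.symm, hd.2, hg.2]
  have hd₀F : d₀ * d⁻¹ ∈ C.F := C.fix_comm hg hdH hd
  have htf : C.t * f * C.t ∈ C.F := by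
    have := C.hFn C.t (Or.inr ⟨C.hta, C.htb⟩) f hfF
    rwa [C.t_inv] at this
  have hU : ∀ x ∈ C.U, g * x * g⁻¹ ∈ C.U := C.hUn g hg.1
  -- `(f t)(gug⁻¹)(f t) = (g u₁ g⁻¹)(f t) d₀ (g u₂ g⁻¹)`
  have e1 : f * C.t * (g * u * g⁻¹) * (f * C.t) = g * u₁ * g⁻¹ * (f * C.t) * d₀ * (g * u₂ * g⁻¹) := by
    rw [← hgt, hd₀]
    calc g * C.t * g⁻¹ * (g * u * g⁻¹) * (g * C.t * g⁻¹) = g * (C.t * u * C.t) * g⁻¹ := by group
      _ = g * (u₁ * C.t * d * u₂) * g⁻¹ := by rw [e]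
      _ = _ := by group
  set k := C.t * f * C.t with hk
  have hkfix : C.Fix2 k := ⟨C.hFa htf, C.hFb htf⟩
  refine ⟨(C.t * f⁻¹ * C.t) * (k * d₀ * k⁻¹), ⟨?_, ?_, ?_⟩, ?_⟩
  · exact mul_mem (mul_mem (mul_mem C.htH (inv_mem (C.hFH hfF))) C.htH)
      (mul_mem (mul_mem (C.hFH htf) (C.hH.conj_mem d hdH g)) (inv_mem (C.hFH htf)))
  · have h1 : C.Fix2 (C.t * f⁻¹ * C.t) :=
      C.t_conj_fix2 ⟨C.hFa (inv_mem hfF), C.hFb (inv_mem hfF)⟩
    have h2 : C.Fix2 (k * d₀ * k⁻¹) :=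
      ⟨by rw [mul_smul, mul_smul, inv_smul_eq_iff.mpr hkfix.1.symm, hd₀f.1, hkfix.1],
        by rw [mul_smul, mul_smul, inv_smul_eq_iff.mpr hkfix.2.symm, hd₀f.2, hkfix.2]⟩
    exact ⟨(mul_smul _ _ _).trans (by rw [h2.1, h1.1]), (mul_smul _ _ _).trans (by rw [h2.2, h1.2])⟩
  · refine ⟨f⁻¹ * (g * u₁ * g⁻¹) * f, ?_, k * (g * u₂ * g⁻¹) * k⁻¹, C.hUn k hkfix.1 _ (hU _ hu₂), ?_⟩
    · simpa using C.hUn f⁻¹ (C.hFa (inv_mem hfF)) _ (hU _ hu₁)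
    · calc C.t * (g * u * g⁻¹) * C.t
          = f⁻¹ * (f * C.t * (g * u * g⁻¹) * (f * C.t)) * (C.t * f⁻¹ * C.t) := by
            simp only [mul_assoc, C.tt, inv_mul_cancel_left, mul_inv_cancel_left]
        _ = f⁻¹ * (g * u₁ * g⁻¹ * (f * C.t) * d₀ * (g * u₂ * g⁻¹)) * (C.t * f⁻¹ * C.t) := by rw [e1]
        _ = _ := by
            simp only [hk, mul_inv_rev, C.t_inv, mul_assoc, C.tt, inv_mul_cancel_left]
  · have hd₀k : k * d₀ * k⁻¹ * d₀⁻¹ ∈ C.F := C.fix_comm hkfix (C.hH.conj_mem d hdH g) hd₀f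
    have h1 : C.t * f⁻¹ * C.t ∈ C.F := by
      have := C.hFn C.t (Or.inr ⟨C.hta, C.htb⟩) _ (inv_mem hfF)
      rwa [C.t_inv] at this
    have : C.t * f⁻¹ * C.t * (k * d₀ * k⁻¹) * d⁻¹
        = (C.t * f⁻¹ * C.t) * (k * d₀ * k⁻¹ * d₀⁻¹) * (d₀ * d⁻¹) := by group
    rw [this]
    exact mul_mem (mul_mem h1 hd₀k) hd₀F

theorem rel_inv {u d : G} (h : C.Rel u d) : C.Rel u⁻¹ (C.t * d⁻¹ * C.t) := by
  obtain ⟨hdH, hd, u₁, hu₁, u₂, hu₂, e⟩ := h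
  refine ⟨mul_mem (mul_mem C.htH (inv_mem hdH)) C.htH,
    C.t_conj_fix2 ⟨inv_smul_eq_iff.mpr hd.1.symm, inv_smul_eq_iff.mpr hd.2.symm⟩,
    u₂⁻¹, inv_mem hu₂, u₁⁻¹, inv_mem hu₁, ?_⟩
  calc C.t * u⁻¹ * C.t = (C.t * u * C.t)⁻¹ := by rw [mul_inv_rev, mul_inv_rev, C.t_inv, mul_assoc]
    _ = _ := by
      rw [e]
      simp only [mul_inv_rev, C.t_inv, mul_assoc, C.tt]

/-- The middle term lies in `F`. -/
theorem rel_mem {u : G} (hu : u ∈ C.U) (hu1 : u ≠ 1) {d : G} (h : C.Rel u d) : d ∈ C.F := by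
  obtain ⟨g, hga, hgb, hg⟩ := C.htr u hu u⁻¹ (inv_mem hu) hu1 (inv_ne_one.mpr hu1)
  obtain ⟨d', hd', hd'd⟩ := C.rel_conj h (g := g) ⟨hga, hgb⟩
  rw [hg] at hd'
  obtain rfl := C.rel_unique hd' (C.rel_inv h)
  have hinv : C.Fix2 d⁻¹ := ⟨inv_smul_eq_iff.mpr h.2.1.1.symm, inv_smul_eq_iff.mpr h.2.1.2.symm⟩
  have h1 := C.t_comm (inv_mem h.1) hinv
  have h2 := mul_mem (inv_mem hd'd) h1
  rw [show (C.t * d⁻¹ * C.t * d⁻¹)⁻¹ * (C.t * d⁻¹ * C.t * d⁻¹⁻¹) = d * d by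
    simp only [mul_inv_rev, inv_inv, C.t_inv, mul_assoc, C.tt, mul_inv_cancel_left]] at h2
  haveI := C.hFc
  letI := IsCyclic.commGroup (α := C.F)
  refine C.hself d h.1 h.2.1.1 h.2.1.2 (C.hsq d h.2.1.1 h.2.1.2 fun f hf => ?_)
  exact congrArg Subtype.val (mul_comm (⟨d * d, h2⟩ : C.F) ⟨f, hf⟩)

/-- The two kinds of elements of the subgroup. -/
def Form (x : G) : Prop :=
  (∃ u ∈ C.U, ∃ f ∈ C.F, x = u * f) ∨ ∃ u₁ ∈ C.U, ∃ f ∈ C.F, ∃ u₂ ∈ C.U, x = u₁ * C.t * f * u₂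

/-- The Bruhat subgroup. -/
def L : Subgroup G := Subgroup.closure ((C.U : Set G) ∪ (C.F : Set G) ∪ {C.t})

theorem U_le_L : C.U ≤ C.L := fun x hx => Subgroup.subset_closure (Or.inl (Or.inl hx))

theorem F_le_L : C.F ≤ C.L := fun x hx => Subgroup.subset_closure (Or.inl (Or.inr hx))

theorem t_mem_L : C.t ∈ C.L := Subgroup.subset_closure (Or.inr rfl)

theorem L_le_H : C.L ≤ C.H := by
  rw [L, Subgroup.closure_le]
  rintro x ((hx | hx) | rfl)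
  · exact C.hUH hx
  · exact C.hFH hx
  · exact C.htH

theorem F_conj_U {f : G} (hf : f ∈ C.F) {u : G} (hu : u ∈ C.U) : f * u * f⁻¹ ∈ C.U := C.hUn f (C.hFa hf) u hu

theorem t_conj_F {f : G} (hf : f ∈ C.F) : C.t * f * C.t ∈ C.F := by
  have := C.hFn C.t (Or.inr ⟨C.hta, C.htb⟩) f hf
  rwa [C.t_inv] at this

theorem form_mul {x : G} (hx : C.Form x) {y : G} (hy : y ∈ (C.U : Set G) ∪ (C.F : Set G) ∪ {C.t}) :
    C.Form (x * y) := by
  have hfu : ∀ {f u : G}, f ∈ C.F → u ∈ C.U → ∃ u' ∈ C.U, f * u = u' * f := fun {f u} hf hu =>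
    ⟨f * u * f⁻¹, C.F_conj_U hf hu, by rw [inv_mul_cancel_right]⟩
  rcases hy with (hy | hy) | rfl
  · rcases hx with ⟨u, hu, f, hf, rfl⟩ | ⟨u₁, hu₁, f, hf, u₂, hu₂, rfl⟩
    · obtain ⟨u', hu', e⟩ := hfu hf hy
      exact Or.inl ⟨u * u', mul_mem hu hu', f, hf, by rw [mul_assoc, e, mul_assoc]⟩
    · exact Or.inr ⟨u₁, hu₁, f, hf, u₂ * y, mul_mem hu₂ hy, by rw [mul_assoc]⟩
  · rcases hx with ⟨u, hu, f, hf, rfl⟩ | ⟨u₁, hu₁, f, hf, u₂, hu₂, rfl⟩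
    · exact Or.inl ⟨u, hu, f * y, mul_mem hf hy, by rw [mul_assoc]⟩
    · refine Or.inr ⟨u₁, hu₁, f * y, mul_mem hf hy, y⁻¹ * u₂ * y, ?_, by group⟩
      simpa using C.F_conj_U (inv_mem hy) hu₂
  · rcases hx with ⟨u, hu, f, hf, rfl⟩ | ⟨u₁, hu₁, f, hf, u₂, hu₂, rfl⟩
    · refine Or.inr ⟨u, hu, C.t * f * C.t, C.t_conj_F hf, 1, one_mem _, ?_⟩
      simp only [mul_assoc, C.tt, mul_one]
    · by_cases h1 : u₂ = 1
      · subst h1
        exact Or.inl ⟨u₁, hu₁, C.t * f * C.t, C.t_conj_F hf, by simp only [mul_assoc, one_mul]⟩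
      obtain ⟨d, hd⟩ := C.exists_rel hu₂ h1
      have hdF := C.rel_mem hu₂ h1 hd
      obtain ⟨-, -, v₁, hv₁, v₂, hv₂, e⟩ := hd
      have htf := C.t_conj_F hf
      obtain ⟨v', hv', e'⟩ := hfu htf hv₁
      refine Or.inr ⟨u₁ * v', mul_mem hu₁ hv', C.t * (C.t * f * C.t) * C.t * d,
        mul_mem (C.t_conj_F htf) hdF, v₂, hv₂, ?_⟩
      calc u₁ * C.t * f * u₂ * C.t = u₁ * (C.t * f * C.t) * (C.t * u₂ * C.t) := by simp only [mul_assoc, C.tt]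
        _ = u₁ * ((C.t * f * C.t) * v₁) * C.t * d * v₂ := by rw [e]; simp only [mul_assoc]
        _ = u₁ * (v' * (C.t * f * C.t)) * C.t * d * v₂ := by rw [e']
        _ = _ := by simp only [mul_assoc, C.tt]

theorem form_of_mem {x : G} (hx : x ∈ C.L) : C.Form x := by
  induction hx using Subgroup.closure_induction_right with
  | one => exact Or.inl ⟨1, one_mem _, 1, one_mem _, (one_mul 1).symm⟩
  | mul_right x _ y hy ih => exact C.form_mul ih hy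
  | mul_inv_cancel x _ y hy ih =>
    refine C.form_mul ih ?_
    rcases hy with (hy | hy) | rfl
    · exact Or.inl (Or.inl (inv_mem hy))
    · exact Or.inl (Or.inr (inv_mem hy))
    · exact Or.inr C.t_inv

theorem L_fix2 {x : G} (hx : x ∈ C.L) (ha : x • C.a = C.a) (hb : x • C.b = C.b) : x ∈ C.F := by
  rcases C.form_of_mem hx with ⟨u, hu, f, hf, rfl⟩ | ⟨u₁, hu₁, f, hf, u₂, hu₂, rfl⟩
  · rw [mul_smul, show f • C.b = C.b from C.hFb hf] at hb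
    rw [C.u_eq hu (one_mem _) C.hab.symm (by rw [hb, one_smul]), one_mul]
    exact hf
  · rw [mul_smul, mul_smul, mul_smul, C.u_fix hu₂, show f • C.a = C.a from C.hFa hf, C.hta] at ha
    exact absurd ha (C.u_smul_ne hu₁ C.hab.symm)

theorem L_move (c : Ω) : ∃ l ∈ C.L, l • C.a = c := by
  by_cases hc : c = C.a
  · exact ⟨1, one_mem _, by rw [one_smul, hc]⟩
  · obtain ⟨u, hu, e⟩ := C.exists_u hc
    exact ⟨u * C.t, mul_mem (C.U_le_L hu) C.t_mem_L, by rw [mul_smul, C.hta, e]⟩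

theorem L_pair {x y : Ω} (hxy : x ≠ y) : ∃ l ∈ C.L, l • C.a = x ∧ l • C.b = y := by
  obtain ⟨l, hl, e⟩ := C.L_move x
  have hne : l⁻¹ • y ≠ C.a := fun h => hxy (by rw [← e, ← h, smul_inv_smul])
  obtain ⟨u, hu, eu⟩ := C.exists_u hne
  exact ⟨l * u, mul_mem hl (C.U_le_L hu), by rw [mul_smul, C.u_fix hu, e],
    by rw [mul_smul, eu, smul_inv_smul]⟩

theorem L_conj {d : G} (hd : C.Fix2 d) : ∀ x ∈ C.L, d * x * d⁻¹ ∈ C.L := by
  intro x hx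
  have key : (C.U : Set G) ∪ (C.F : Set G) ∪ {C.t} ⊆ (C.L.comap (MulAut.conj d).toMonoidHom : Subgroup G) := by
    rintro y ((hy | hy) | rfl) <;>
      simp only [Subgroup.coe_comap, Set.mem_preimage, MulEquiv.coe_toMonoidHom, MulAut.conj_apply, SetLike.mem_coe]
    · exact C.U_le_L (C.hUn d hd.1 y hy)
    · exact C.F_le_L (C.hFn d (Or.inl hd) y hy)
    · have := mul_mem (C.F_le_L (C.t_moved hd)) C.t_mem_L
      rwa [mul_assoc _ C.t C.t, C.ht2, mul_one] at this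
  exact (Subgroup.closure_le _).mpr key hx

theorem L_normal : (C.L.subgroupOf C.H).Normal := by
  refine Subgroup.normal_subgroupOf_iff_le_normalizer C.L_le_H |>.mpr fun h hh => ?_
  have hne : h • C.a ≠ h • C.b := fun e => C.hab (smul_left_cancel h e)
  obtain ⟨l, hl, la, lb⟩ := C.L_pair hne
  set d := l⁻¹ * h with hd
  have hdH : d ∈ C.H := mul_mem (inv_mem (C.L_le_H hl)) hh
  have hdf : C.Fix2 d :=
    ⟨by rw [hd, mul_smul, inv_smul_eq_iff, la], by rw [hd, mul_smul, inv_smul_eq_iff, lb]⟩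
  have hdn : d ∈ Subgroup.normalizer (C.L : Set G) := by
    rw [Subgroup.mem_normalizer_iff]
    intro x
    refine ⟨C.L_conj hdf x, fun hx => ?_⟩
    have := C.L_conj ⟨inv_smul_eq_iff.mpr hdf.1.symm, inv_smul_eq_iff.mpr hdf.2.symm⟩ _ hx
    simpa [mul_assoc] using this
  rw [show h = l * d by rw [hd, mul_inv_cancel_left]]
  exact mul_mem (Subgroup.le_normalizer hl) hdn

theorem L_two_transitive : IsMultiplyPretransitive C.L Ω 2 := by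
  rw [is_two_pretransitive_iff]
  intro x y z w hxy hzw
  obtain ⟨l, hl, la, lb⟩ := C.L_pair hxy
  obtain ⟨m, hm, ma, mb⟩ := C.L_pair hzw
  refine ⟨⟨m * l⁻¹, mul_mem hm (inv_mem hl)⟩, ?_, ?_⟩
  · show (m * l⁻¹) • x = z
    rw [← la, mul_smul, inv_smul_smul, ma]
  · show (m * l⁻¹) • y = w
    rw [← lb, mul_smul, inv_smul_smul, mb]

variable [Finite G] [Fintype Ω] [FaithfulSMul G Ω]

/-- The semiregular group gives a lower bound, or a normal linear fractional subgroup. -/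
theorem main (hno : ∀ e : ℕ, Fintype.card Ω ≠ 2 ^ e) (hF : C.F ≠ ⊥) :
    Fintype.card Ω - 2 ≤ Nat.card C.F ∨
      2 * Nat.card C.F = Fintype.card Ω - 2 ∧
        ∃ (N : Subgroup ↥C.H) (F : Type) (_ : Field F) (_ : Fintype F), N.Normal ∧
          Fintype.card F + 1 = Fintype.card Ω ∧
          Nonempty (↥N ≃* Matrix.ProjectiveSpecialLinearGroup (Fin 2) F) := by
  classical
  haveI hfaith : FaithfulSMul C.L Ω :=
    ⟨fun h => Subtype.ext (FaithfulSMul.eq_of_smul_eq_smul (α := Ω) h)⟩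
  haveI h2 := C.L_two_transitive
  have hthree : ∀ g : C.L, ∀ x y z : Ω, x ≠ y → y ≠ z → x ≠ z → g • x = x → g • y = y → g • z = z → g = 1 := by
    intro g x y z hxy hyz hxz gx gy gz
    obtain ⟨l, hl, la, lb⟩ := C.L_pair hxy
    set f := l⁻¹ * g * l with hf
    have hfF : f ∈ C.F := by
      refine C.L_fix2 (mul_mem (mul_mem (inv_mem hl) g.2) hl) ?_ ?_
      · rw [hf, mul_smul, mul_smul, la, show (g : G) • x = x from gx, ← la, inv_smul_smul]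
      · rw [hf, mul_smul, mul_smul, lb, show (g : G) • y = y from gy, ← lb, inv_smul_smul]
    have h1 := C.hsemi f hfF (l⁻¹ • z) (fun e => hxz (by rw [← la, ← e, smul_inv_smul]))
      (fun e => hyz (by rw [← lb, ← e, smul_inv_smul]))
      (by rw [hf, mul_smul, mul_smul, smul_inv_smul, show (g : G) • z = z from gz])
    refine Subtype.ext ?_
    calc (g : G) = l * f * l⁻¹ := by rw [hf]; group
      _ = 1 := by rw [h1]; group
  obtain ⟨f₀, hf₀, hf₀1⟩ := (Subgroup.bot_or_exists_ne_one C.F).resolve_left hF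
  have hfix : ∃ g : C.L, g ≠ 1 ∧ ∃ x y : Ω, x ≠ y ∧ g • x = x ∧ g • y = y :=
    ⟨⟨f₀, C.F_le_L hf₀⟩, fun e => hf₀1 (congrArg Subtype.val e), C.a, C.b, C.hab, C.hFa hf₀, C.hFb hf₀⟩
  have hZ : Cfsg.IsZassenhausGroup C.L Ω := by
    refine ⟨hfaith, h2, hthree, hfix, fun N hN htr => ?_⟩
    by_contra hreg
    push Not at hreg
    haveI := hN
    obtain ⟨q, -, hq⟩ := Cfsg.Agent.S0341.result h2 hthree hfix N htr hreg
    exact hno q hq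
  set UL := C.U.subgroupOf C.L with hUL
  have hUle : UL ≤ stabilizer C.L C.a := fun x hx => C.hUa hx
  have hUn : (UL.subgroupOf (stabilizer C.L C.a)).Normal := ⟨fun u hu g => C.hUn _ g.2 _ hu⟩
  have hUab : IsMulCommutative UL := ⟨⟨fun x y => Subtype.ext (Subtype.ext (C.hUab _ x.2 _ y.2))⟩⟩
  have hUreg : ∀ y z : Ω, y ≠ C.a → z ≠ C.a → ∃! u : UL, (u : C.L) • y = z := by
    intro y z hy hz
    obtain ⟨u, hu, huniq⟩ := C.hreg y z hy hz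
    refine ⟨⟨⟨u, C.U_le_L u.2⟩, u.2⟩, hu, fun w hw => ?_⟩
    exact Subtype.ext (Subtype.ext (congrArg (fun z : C.U => (z : G)) (huniq ⟨_, w.2⟩ hw)))
  have hcard : ∀ y : Ω, C.a ≠ y →
      Nat.card ↥(stabilizer C.L C.a ⊓ stabilizer C.L y) = Nat.card C.F := by
    intro y hy
    obtain ⟨u, hu, eu⟩ := C.exists_u hy.symm
    refine Nat.card_congr
      { toFun := fun g => ⟨u⁻¹ * ((g : C.L) : G) * u, C.L_fix2
          (mul_mem (mul_mem (inv_mem (C.U_le_L hu)) g.1.2) (C.U_le_L hu)) ?_ ?_⟩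
        invFun := fun f => ⟨⟨u * f * u⁻¹, mul_mem (mul_mem (C.U_le_L hu) (C.F_le_L f.2))
          (inv_mem (C.U_le_L hu))⟩, ?_, ?_⟩
        left_inv := fun g => by apply Subtype.ext; apply Subtype.ext; simp [mul_assoc]
        right_inv := fun f => by apply Subtype.ext; simp [mul_assoc] }
    · rw [mul_smul, mul_smul, C.u_fix hu, show ((g : C.L) : G) • C.a = C.a from g.2.1, inv_smul_eq_iff,
        C.u_fix hu]
    · rw [mul_smul, mul_smul, eu, show ((g : C.L) : G) • y = y from g.2.2, inv_smul_eq_iff, eu]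
    · show (u * (f : G) * u⁻¹) • C.a = C.a
      rw [mul_smul, mul_smul, inv_smul_eq_iff.mpr (C.u_fix hu).symm, show (f : G) • C.a = C.a from C.hFa f.2,
        C.u_fix hu]
    · show (u * (f : G) * u⁻¹) • y = y
      rw [mul_smul, mul_smul, inv_smul_eq_iff.mpr eu.symm, show (f : G) • C.b = C.b from C.hFb f.2, eu]
  rcases CfsgLib.ZassenhausAbelian.cases hZ C.a UL hUle hUn hUab hUreg with
    ⟨y, hy, hd, -⟩ | ⟨y, hy, hd, p, f, K, iK, iKf, -, -, hK, hn, ⟨e⟩⟩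
  · left
    rw [hcard y hy] at hd
    omega
  · right
    rw [hcard y hy] at hd
    exact ⟨hd, C.L.subgroupOf C.H, K, iK, iKf, C.L_normal, by omega,
      ⟨(Subgroup.subgroupOfEquivOfLe C.L_le_H).trans e⟩⟩

end Config

end CfsgLib.BannaiThree
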