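import Mathlib
import Cfsg.Prelude.Def_Solvable
import Cfsg.Agent.S3371
import Cfsg.Agent.Lib.Blocks.KThree.Linear
import Cfsg.Agent.Lib.Basic
import Cfsg.Agent.Lib.PSolvable

/-!
Transitive linear groups in odd dimension over a prime field of odd order: a real element has a square with a
nonzero fixed vector, the Fitting subgroup of a normal subgroup is cyclic and semiregular, and no element induces an
involution on it.
-/

set_option autoImplicit false
set_option linter.unusedSectionVars false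
set_option linter.style.haveILetI false

namespace CfsgLib.BannaiThree

open Module

universe u v

variable {p : ℕ} [hp : Fact p.Prime] {V : Type v} [AddCommGroup V] [Finite V] [Module (ZMod p) V]
  {K : Type u} [Group K] [Finite K] (ρ : Representation (ZMod p) K V)

theorem rep_mul_app (g h : K) (v : V) : ρ (g * h) v = ρ g (ρ h v) := by rw [map_mul]; rfl

theorem rep_one_app (v : V) : ρ 1 v = v := by rw [map_one]; rfl

theorem rep_inv_app (g : K) (v : V) : ρ g⁻¹ (ρ g v) = v := by
  rw [← rep_mul_app, inv_mul_cancel, rep_one_app]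

theorem rep_det_ne_zero (g : K) : LinearMap.det (ρ g) ≠ 0 := by
  intro h
  have h1 : LinearMap.det (ρ g) * LinearMap.det (ρ g⁻¹) = 1 := by
    rw [← map_mul, ← map_mul, mul_inv_cancel, map_one, map_one]
  rw [h, zero_mul] at h1
  exact zero_ne_one h1

theorem rep_det_conj (g : K) (a : Module.End (ZMod p) V) :
    LinearMap.det (ρ g * a * ρ g⁻¹) = LinearMap.det a := by
  rw [map_mul, map_mul, mul_right_comm, ← map_mul LinearMap.det (ρ g), ← map_mul ρ,
    mul_inv_cancel, map_one, map_one, one_mul]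

theorem two_ne_zero_zmod (hp2 : p ≠ 2) : (2 : ZMod p) ≠ 0 := by
  intro h
  have h' : ((2 : ℕ) : ZMod p) = 0 := by exact_mod_cast h
  rw [ZMod.natCast_eq_zero_iff] at h'
  exact hp2 ((Nat.prime_dvd_prime_iff_eq hp.out Nat.prime_two).mp h')

/-- If `x` is real and `x - 1` is invertible, then the determinant of `x` is `-1`. -/
theorem det_eq_neg_one (hm : Odd (finrank (ZMod p) V)) {x g : K} (hg : g * x * g⁻¹ = x⁻¹)
    (h : LinearMap.det (ρ x - 1) ≠ 0) : LinearMap.det (ρ x) = -1 := by
  have e1 : ρ x⁻¹ - 1 = (-1 : ZMod p) • (ρ x⁻¹ * (ρ x - 1)) := by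
    rw [mul_sub, ← map_mul, inv_mul_cancel, map_one, mul_one, neg_one_smul, neg_sub]
  have e2 : ρ g * (ρ x - 1) * ρ g⁻¹ = ρ x⁻¹ - 1 := by
    rw [mul_sub, sub_mul, ← map_mul, ← map_mul, hg, mul_one, ← map_mul, mul_inv_cancel, map_one]
  have e3 := rep_det_conj ρ g (ρ x - 1)
  rw [e2, e1, LinearMap.det_smul, map_mul, hm.neg_one_pow, ← mul_assoc] at e3
  have e4 : (-1 : ZMod p) * LinearMap.det (ρ x⁻¹) = 1 := mul_right_cancel₀ h (by rw [e3, one_mul])
  have e5 : LinearMap.det (ρ x⁻¹) * LinearMap.det (ρ x) = 1 := by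
    rw [← map_mul, ← map_mul, inv_mul_cancel, map_one, map_one]
  calc LinearMap.det (ρ x) = (-1 : ZMod p) * LinearMap.det (ρ x⁻¹) * LinearMap.det (ρ x) := by rw [e4, one_mul]
    _ = -1 := by rw [mul_assoc, e5, mul_one]

/-- In odd dimension over an odd prime field the square of a real element fixes a nonzero vector. -/
theorem real_sq_fix (hp2 : p ≠ 2) (hm : Odd (finrank (ZMod p) V)) {x g : K} (hg : g * x * g⁻¹ = x⁻¹) :
    ∃ v : V, v ≠ 0 ∧ ρ (x * x) v = v := by
  by_contra hcon
  push Not at hcon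
  have hne : LinearMap.det (ρ (x * x) - 1) ≠ 0 := by
    intro h
    obtain ⟨v, hv, hv0⟩ := (Submodule.ne_bot_iff _).mp (LinearMap.bot_lt_ker_of_det_eq_zero h).ne'
    rw [LinearMap.mem_ker, LinearMap.sub_apply, Module.End.one_apply, sub_eq_zero] at hv
    exact hcon v hv0 hv
  have h1 : LinearMap.det (ρ x - 1) ≠ 0 := by
    intro h
    apply hne
    rw [show ρ (x * x) - 1 = (ρ x + 1) * (ρ x - 1) by rw [map_mul]; noncomm_ring, map_mul, h, mul_zero]
  have hg2 : g * (x * x) * g⁻¹ = (x * x)⁻¹ := by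
    calc g * (x * x) * g⁻¹ = (g * x * g⁻¹) * (g * x * g⁻¹) := by group
      _ = _ := by rw [hg, mul_inv_rev]
  have h2 := det_eq_neg_one ρ hm hg2 hne
  rw [map_mul, map_mul, det_eq_neg_one ρ hm hg h1, neg_mul_neg, one_mul] at h2
  exact two_ne_zero_zmod hp2 (by linear_combination h2)

/-- A semiregular involution acts as `-1`. -/
theorem eq_neg_of_fpf {x : K} (hx : x * x = 1) (hf : ∀ v : V, ρ x v = v → v = 0) (v : V) : ρ x v = -v := by
  have h := hf (ρ x v + v) (by rw [map_add, ← rep_mul_app, hx, rep_one_app, add_comm])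
  exact eq_neg_of_add_eq_zero_left h

/-- If the square of `g` centralises a semiregular abelian subgroup normalised by `g`, then so does `g`. -/
theorem commute_of_sq (hp2 : p ≠ 2) (hm : Odd (finrank (ZMod p) V)) (F : Subgroup K)
    (hsemi : ∀ f ∈ F, f ≠ 1 → ∀ v : V, ρ f v = v → v = 0)
    {g : K} (hn : ∀ f ∈ F, g * f * g⁻¹ ∈ F) (hsq : ∀ f ∈ F, g * g * f = f * (g * g)) :
    ∀ f ∈ F, g * f = f * g := by
  intro f hf
  set c := g * f * g⁻¹ with hc
  have hcF : c ∈ F := hn f hf
  have hgc : g * c * g⁻¹ = f := by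
    calc g * c * g⁻¹ = g * g * f * (g * g)⁻¹ := by rw [hc]; group
      _ = f := by rw [hsq f hf]; group
  set w := c * f⁻¹ with hw
  have hwF : w ∈ F := mul_mem hcF (inv_mem hf)
  have hreal : g * w * g⁻¹ = w⁻¹ := by
    calc g * w * g⁻¹ = (g * c * g⁻¹) * (g * f * g⁻¹)⁻¹ := by rw [hw]; group
      _ = f * c⁻¹ := by rw [hgc, ← hc]
      _ = w⁻¹ := by rw [hw]; group
  have hw2 : w * w = 1 := by
    by_contra h
    obtain ⟨v, hv0, hv⟩ := real_sq_fix ρ hp2 hm hreal
    exact hv0 (hsemi _ (mul_mem hwF hwF) h v hv)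
  have hw1 : w = 1 := by
    by_contra hne
    have hneg := eq_neg_of_fpf ρ hw2 (hsemi w hwF hne)
    have e : ρ g * ρ f * ρ g⁻¹ = (-1 : ZMod p) • ρ f := by
      rw [← map_mul, ← map_mul, ← hc, show c = w * f by rw [hw, inv_mul_cancel_right], map_mul]
      refine LinearMap.ext fun v => ?_
      rw [Module.End.mul_apply, hneg, LinearMap.smul_apply, neg_one_smul]
    have h := rep_det_conj ρ g (ρ f)
    rw [e, LinearMap.det_smul, hm.neg_one_pow, neg_mul, one_mul] at h
    have h2 : (2 : ZMod p) * LinearMap.det (ρ f) = 0 := by linear_combination -h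
    rcases mul_eq_zero.mp h2 with h3 | h3
    · exact two_ne_zero_zmod hp2 h3
    · exact rep_det_ne_zero ρ f h3
  have hcf : c = f := mul_inv_eq_one.mp (hw ▸ hw1)
  calc g * f = c * g := by rw [hc]; group
    _ = f * g := by rw [hcf]

/-- The representation by linear equivalences. -/
def repEquiv : K →* (V ≃ₗ[ZMod p] V) where
  toFun g := LinearEquiv.ofLinearMap (ρ g) (ρ g⁻¹)
    (LinearMap.ext fun v => by
      show ρ g (ρ g⁻¹ v) = v
      rw [← rep_mul_app, mul_inv_cancel, rep_one_app])
    (LinearMap.ext fun v => rep_inv_app ρ g v)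
  map_one' := LinearEquiv.ext fun v => rep_one_app ρ v
  map_mul' g h := LinearEquiv.ext fun v => rep_mul_app ρ g h v

theorem repEquiv_apply (g : K) (v : V) : repEquiv ρ g v = ρ g v := rfl

/-- A normal `r`-subgroup of a transitive linear group of odd dimension is cyclic and semiregular. -/
theorem pgroup_cyclic [Nontrivial V] (hρ : Function.Injective ρ) (hp2 : p ≠ 2)
    (hm : Odd (finrank (ZMod p) V)) (htr : ∀ v w : V, v ≠ 0 → w ≠ 0 → ∃ g : K, ρ g v = w)
    (P : Subgroup K) [hPn : P.Normal] {r : ℕ} [Fact r.Prime] (hP : IsPGroup r P) :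
    IsCyclic P ∧ ∀ x ∈ P, x ≠ 1 → ∀ v : V, ρ x v = v → v = 0 := by
  have hinj : Function.Injective ((repEquiv ρ).comp P.subtype) := by
    intro x y e
    refine Subtype.ext (hρ (LinearMap.ext fun v => ?_))
    exact LinearEquiv.congr_fun e v
  have hhalf : ∀ v w : V, v ≠ 0 → w ≠ 0 →
      Nat.card {u : V | ∃ x : P, (repEquiv ρ).comp P.subtype x v = u} =
      Nat.card {u : V | ∃ x : P, (repEquiv ρ).comp P.subtype x w = u} := by
    intro v w hv hw
    obtain ⟨g, rfl⟩ := htr v w hv hw
    refine Nat.card_congr ((Equiv.subtypeEquiv ((repEquiv ρ g).toEquiv) fun u => ?_))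
    constructor
    · rintro ⟨⟨x, hx⟩, rfl⟩
      refine ⟨⟨g * x * g⁻¹, hPn.conj_mem x hx g⟩, ?_⟩
      show ρ (g * x * g⁻¹) (ρ g v) = ρ g (ρ x v)
      rw [← rep_mul_app, ← rep_mul_app, inv_mul_cancel_right]
    · rintro ⟨⟨x, hx⟩, e⟩
      refine ⟨⟨g⁻¹ * x * g, by simpa using hPn.conj_mem x hx g⁻¹⟩, ?_⟩
      have e' : ρ x (ρ g v) = ρ g u := e
      show ρ (g⁻¹ * x * g) v = u
      rw [rep_mul_app, rep_mul_app, e', rep_inv_app]
  have hsq : ∀ e : ℕ, Even e → Nat.card V ≠ p ^ e := by
    intro e he hc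
    rw [Module.natCard_eq_pow_finrank (K := ZMod p), Nat.card_zmod] at hc
    rw [Nat.pow_right_injective hp.out.two_le hc] at hm
    exact Nat.not_even_iff_odd.mpr hm he
  rcases Cfsg.Agent.S3371.result p r hP ((repEquiv ρ).comp P.subtype) hinj hhalf with
    ⟨hshape, hsemi⟩ | ⟨h2, -⟩ | ⟨h2, -⟩ | ⟨h81, h3, -⟩
  · have hfix : ∀ x ∈ P, x ≠ 1 → ∀ v : V, ρ x v = v → v = 0 := fun x hx hx1 v hv => by
      by_contra hv0
      exact hx1 (congrArg Subtype.val (hsemi v hv0 ⟨x, hx⟩ hv))
    refine ⟨?_, hfix⟩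
    rcases hshape with hc | ⟨n, ⟨e⟩⟩
    · exact hc
    · haveI : Finite (QuaternionGroup n) := Finite.of_equiv _ e.toEquiv
      haveI : NeZero n := ⟨by
        rintro rfl
        haveI : Infinite (QuaternionGroup 0) := Infinite.of_injective
          (fun i : ℕ => QuaternionGroup.a (i : ZMod (2 * 0))) (fun i j h => by simpa using h)
        exact not_finite (QuaternionGroup 0)⟩
      set x := e.symm (QuaternionGroup.a 1)
      set y := e.symm (QuaternionGroup.xa 0)
      have hxy : y * x * y⁻¹ = x⁻¹ := by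
        apply e.injective
        rw [map_mul, map_mul, map_inv, map_inv, e.apply_symm_apply, e.apply_symm_apply,
          mul_inv_eq_iff_eq_mul, eq_inv_mul_iff_mul_eq]
        simp
      by_cases h1 : n = 1
      · subst h1
        refine isCyclic_of_orderOf_eq_card y ?_
        rw [e.symm.orderOf_eq, QuaternionGroup.orderOf_xa, Nat.card_congr e.toEquiv,
          Nat.card_eq_fintype_card, QuaternionGroup.card]
      exfalso
      have hK : (y : K) * x * (y : K)⁻¹ = (x : K)⁻¹ := congrArg Subtype.val hxy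
      obtain ⟨v, hv0, hv⟩ := real_sq_fix ρ hp2 hm hK
      refine hv0 (hfix _ (mul_mem x.2 x.2) (fun e' => h1 ?_) v hv)
      have hd : orderOf x ∣ 2 := orderOf_dvd_of_pow_eq_one (by rw [sq]; exact Subtype.ext e')
      rw [e.symm.orderOf_eq, QuaternionGroup.orderOf_a_one] at hd
      have := Nat.le_of_dvd two_pos hd
      have := NeZero.ne n
      omega
  · exact absurd h2 (hsq 2 even_two)
  · exact absurd h2 (hsq 2 even_two)
  · exact absurd (show Nat.card V = p ^ 4 by rw [h81, h3]; norm_num) (hsq 4 (by decide))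

theorem fitting_char {S : Type u} [Group S] [Finite S] : (Cfsg.fittingSubgroup S).Characteristic :=
  Subgroup.characteristic_iff_map_le.mpr fun f => by
    haveI : ((Cfsg.fittingSubgroup S).map f.toMonoidHom).Normal :=
      Subgroup.Normal.map CfsgLib.fittingSubgroup_normal f.toMonoidHom f.surjective
    refine CfsgLib.le_fittingSubgroup ?_
    haveI := CfsgLib.isNilpotent_fittingSubgroup (G := S)
    exact Group.nilpotent_of_surjective ((Cfsg.fittingSubgroup S).equivMapOfInjective f.toMonoidHom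
      f.injective).toMonoidHom (MulEquiv.surjective _)

/-- The Fitting subgroup of a normal subgroup of a transitive linear group of odd dimension. -/
theorem fitting_facts [Nontrivial V] (hρ : Function.Injective ρ) (hp2 : p ≠ 2)
    (hm : Odd (finrank (ZMod p) V)) (htr : ∀ v w : V, v ≠ 0 → w ≠ 0 → ∃ g : K, ρ g v = w)
    (D : Subgroup K) [D.Normal] :
    IsCyclic (Cfsg.fittingSubgroup D) ∧
      ∀ f ∈ Cfsg.fittingSubgroup D, f ≠ 1 → ∀ v : V, ρ (f : K) v = v → v = 0 := by
  set F := Cfsg.fittingSubgroup ↥D with hF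
  haveI : Group.IsNilpotent F := CfsgLib.isNilpotent_fittingSubgroup
  have key : ∀ (r : ℕ) [Fact r.Prime] (P : Sylow r F),
      IsCyclic P ∧ ∀ x : F, x ∈ (P : Subgroup F) → x ≠ 1 → ∀ v : V, ρ ((x : D) : K) v = v → v = 0 := by
    intro r _ P
    haveI : (P : Subgroup F).Normal := inferInstance
    haveI : (P : Subgroup F).Characteristic := Sylow.characteristic_of_normal P inferInstance
    haveI : F.Characteristic := fitting_char
    haveI : ((P : Subgroup F).map F.subtype).Characteristic :=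
      Subgroup.characteristic_iff_map_eq.mpr fun e => by
        set e' : F ≃* F := (e.subgroupMap F).trans
          (MulEquiv.subgroupCongr (Subgroup.characteristic_iff_map_eq.mp inferInstance e))
        have h1 := Subgroup.characteristic_iff_map_eq.mp (inferInstance : (P : Subgroup F).Characteristic) e'
        rw [Subgroup.map_map]
        conv_rhs => rw [← h1, Subgroup.map_map]
        rfl
    haveI : ((((P : Subgroup F).map F.subtype)).map D.subtype).Normal := inferInstance
    obtain ⟨hc, hs⟩ := pgroup_cyclic ρ hρ hp2 hm htr (((P : Subgroup F).map F.subtype).map D.subtype)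
      ((P.isPGroup'.map _).map _)
    refine ⟨?_, fun x hx hx1 v hv => hs _ ⟨(x : D), ⟨x, hx, rfl⟩, rfl⟩
      (fun e => hx1 (Subtype.ext (Subtype.ext e))) v hv⟩
    rw [Subgroup.map_map] at hc
    exact ((Subgroup.equivMapOfInjective (P : Subgroup F) _
      (D.subtype_injective.comp F.subtype_injective)).isCyclic).mpr hc
  haveI : IsZGroup F := ⟨fun r hr P => by haveI := Fact.mk hr; exact (key r P).1⟩
  haveI : IsCyclic F := inferInstance
  refine ⟨inferInstance, fun f hf hf1 v hv => ?_⟩
  by_contra hv0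
  let S : Subgroup F :=
    { carrier := {x | ρ ((x : D) : K) v = v}
      one_mem' := rep_one_app ρ v
      mul_mem' := fun {a b} ha hb => by
        show ρ (((a * b : F) : D) : K) v = v
        rw [Subgroup.coe_mul, Subgroup.coe_mul, rep_mul_app, show ρ ((b : D) : K) v = v from hb]
        exact ha
      inv_mem' := fun {a} ha => by
        show ρ ((a⁻¹ : F) : D) v = v
        rw [Subgroup.coe_inv, Subgroup.coe_inv]
        conv_lhs => rw [← show ρ ((a : D) : K) v = v from ha]
        exact rep_inv_app ρ _ v }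
  haveI : Nontrivial S := ⟨⟨⟨⟨f, hf⟩, hv⟩, 1, fun e => hf1 (congrArg (fun z : S => ((z : F) : D)) e)⟩⟩
  obtain ⟨r, hr, hdvd⟩ := Nat.exists_prime_and_dvd (Finite.one_lt_card : 1 < Nat.card S).ne'
  haveI := Fact.mk hr
  obtain ⟨x, hx⟩ := exists_prime_orderOf_dvd_card' r hdvd
  have hxo : orderOf (x : F) = r := by rw [Subgroup.orderOf_coe, hx]
  obtain ⟨P, hP⟩ := (IsPGroup.iff_card.mpr ⟨1, by rw [Nat.card_zpowers, hxo, pow_one]⟩ :
    IsPGroup r (Subgroup.zpowers (x : F))).exists_le_sylow
  refine hv0 ((key r P).2 x (hP (Subgroup.mem_zpowers _)) (fun e => ?_) v x.2)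
  rw [e, orderOf_one] at hxo
  exact hr.ne_one hxo.symm

end CfsgLib.BannaiThree
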