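import Cfsg.Agent.Lib.BannaiThree.Stabiliser
import Cfsg.Agent.S0699
import Cfsg.Agent.S0706

/-!
Bannai's theorem on normal subgroups of triply transitive groups of degree divisible by 3.
-/

set_option autoImplicit false
set_option linter.unusedSectionVars false
set_option linter.style.haveILetI false

namespace CfsgLib.BannaiThree

open MulAction

universe u v

variable {G : Type u} {Ω : Type v} [Group G] [MulAction G Ω]

section Colour

theorem mem_colour_self (H : Subgroup G) (a b c : Ω) : c ∈ colour H a b c :=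
  ⟨1, H.one_mem, one_smul G a, one_smul G b, one_smul G c⟩

theorem colour_symm {H : Subgroup G} {a b c d : Ω} (h : d ∈ colour H a b c) : c ∈ colour H a b d := by
  obtain ⟨g, hg, ga, gb, gc⟩ := h
  exact ⟨g⁻¹, inv_mem hg, inv_smul_eq_iff.mpr ga.symm, inv_smul_eq_iff.mpr gb.symm, inv_smul_eq_iff.mpr gc.symm⟩

theorem colour_trans {H : Subgroup G} {a b c d e : Ω} (h : d ∈ colour H a b c) (h' : e ∈ colour H a b d) :
    e ∈ colour H a b c := by
  obtain ⟨g, hg, ga, gb, gc⟩ := h
  obtain ⟨k, hk, ka, kb, kd⟩ := h'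
  exact ⟨k * g, mul_mem hk hg, by rw [mul_smul, ga, ka], by rw [mul_smul, gb, kb], by rw [mul_smul, gc, kd]⟩

theorem colour_ne {H : Subgroup G} {a b c d : Ω} (hca : c ≠ a) (hcb : c ≠ b) (h : d ∈ colour H a b c) :
    d ≠ a ∧ d ≠ b := by
  obtain ⟨g, -, ga, gb, rfl⟩ := h
  exact ⟨fun e => hca (smul_left_cancel g (e.trans ga.symm)), fun e => hcb (smul_left_cancel g (e.trans gb.symm))⟩

/-- Two of any three points are in one colour. -/
def Two (H : Subgroup G) (a b : Ω) : Prop :=
  ∀ x y z : Ω, x ≠ a → x ≠ b → y ≠ a → y ≠ b → z ≠ a → z ≠ b →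
    y ∈ colour H a b x ∨ z ∈ colour H a b y ∨ z ∈ colour H a b x

variable [Fintype Ω]

theorem card_others {a b : Ω} (hab : a ≠ b) : Nat.card {x : Ω // x ≠ a ∧ x ≠ b} = Fintype.card Ω - 2 := by
  classical
  rw [Nat.card_congr (Equiv.subtypeEquivRight (q := fun x => x ∈ ({a, b} : Finset Ω)ᶜ) fun x => by simp),
    Nat.card_eq_fintype_card, Fintype.card_coe, Finset.card_compl, Finset.card_pair hab]

theorem colour_card_le {H : Subgroup G} {a b c : Ω} (hab : a ≠ b) (hca : c ≠ a) (hcb : c ≠ b) :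
    Nat.card (colour H a b c) ≤ Fintype.card Ω - 2 := by
  rw [← card_others hab]
  exact Nat.card_le_card_of_injective (fun x => ⟨x.1, colour_ne hca hcb x.2⟩) fun x y e =>
    Subtype.ext (congrArg (fun z : {z : Ω // z ≠ a ∧ z ≠ b} => z.1) e)

variable (h3 : IsMultiplyPretransitive G Ω 3) (H : Subgroup G) [hHn : H.Normal]
include h3 hHn

/-- All colours have the same size. -/
theorem colour_card_eq {a b c d : Ω} (hab : a ≠ b) (hca : c ≠ a) (hcb : c ≠ b) (hda : d ≠ a) (hdb : d ≠ b) :
    Nat.card (colour H a b c) = Nat.card (colour H a b d) := by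
  obtain ⟨g, ga, gb, gc⟩ := exists_three h3 hab hcb.symm hca.symm hab hdb.symm hda.symm
  refine Nat.card_congr ((toPerm g).subtypeEquiv fun x => ?_)
  show x ∈ colour H a b c ↔ g • x ∈ colour H a b d
  constructor
  · rintro ⟨h, hh, ha, hb, rfl⟩
    refine ⟨g * h * g⁻¹, hHn.conj_mem h hh g, ?_, ?_, ?_⟩
    · rw [mul_smul, mul_smul, inv_smul_eq_iff.mpr ga.symm, ha, ga]
    · rw [mul_smul, mul_smul, inv_smul_eq_iff.mpr gb.symm, hb, gb]
    · rw [mul_smul, mul_smul, inv_smul_eq_iff.mpr gc.symm]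
  · rintro ⟨h, hh, ha, hb, e⟩
    refine ⟨g⁻¹ * h * g, by simpa using hHn.conj_mem h hh g⁻¹, ?_, ?_, ?_⟩
    · rw [mul_smul, mul_smul, ga, ha, inv_smul_eq_iff, ga]
    · rw [mul_smul, mul_smul, gb, hb, inv_smul_eq_iff, gb]
    · rw [mul_smul, mul_smul, gc, e, inv_smul_smul]

/-- A big colour leaves room for two colours only. -/
theorem two_of_bound {a b c : Ω} (hab : a ≠ b) (hca : c ≠ a) (hcb : c ≠ b)
    (hk : Fintype.card Ω - 2 ≤ 2 * Nat.card (colour H a b c)) : Two H a b := by
  intro x y z hxa hxb hya hyb hza hzb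
  by_contra hcon
  push Not at hcon
  obtain ⟨h1, h2, h3'⟩ := hcon
  have hpos : 0 < Nat.card (colour H a b c) := by
    haveI : Nonempty (colour H a b c) := ⟨⟨c, mem_colour_self H a b c⟩⟩
    exact Nat.card_pos
  let f : colour H a b x ⊕ colour H a b y ⊕ colour H a b z → {w : Ω // w ≠ a ∧ w ≠ b} :=
    Sum.elim (fun w => ⟨w.1, colour_ne hxa hxb w.2⟩)
      (Sum.elim (fun w => ⟨w.1, colour_ne hya hyb w.2⟩) fun w => ⟨w.1, colour_ne hza hzb w.2⟩)
  have hf : Function.Injective f := by
    have key : ∀ {u u' w : Ω}, u' ∉ colour H a b u → w ∈ colour H a b u → w ∈ colour H a b u' → False :=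
      fun hn h h' => hn (colour_trans h (colour_symm h'))
    rintro (⟨p, hp⟩ | ⟨p, hp⟩ | ⟨p, hp⟩) (⟨q, hq⟩ | ⟨q, hq⟩ | ⟨q, hq⟩) e <;>
      obtain rfl : p = q := congrArg (fun w : {w : Ω // w ≠ a ∧ w ≠ b} => w.1) e
    · rfl
    · exact (key h1 hp hq).elim
    · exact (key h3' hp hq).elim
    · exact (key h1 hq hp).elim
    · rfl
    · exact (key h2 hp hq).elim
    · exact (key h3' hq hp).elim
    · exact (key h2 hq hp).elim
    · rfl
  have h := Nat.card_le_card_of_injective f hf
  rw [card_others hab, Nat.card_sum, Nat.card_sum, ← colour_card_eq h3 H hab hca hcb hxa hxb,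
    ← colour_card_eq h3 H hab hca hcb hya hyb, ← colour_card_eq h3 H hab hca hcb hza hzb] at h
  omega

/-- The colour size divides `n - 2`. -/
theorem colour_dvd {a b c : Ω} (hab : a ≠ b) (hca : c ≠ a) (hcb : c ≠ b) :
    Nat.card (colour H a b c) ∣ Fintype.card Ω - 2 := by
  classical
  let s : Setoid {w : Ω // w ≠ a ∧ w ≠ b} :=
    { r := fun x y => y.1 ∈ colour H a b x.1
      iseqv := ⟨fun x => mem_colour_self H a b x.1, fun h => colour_symm h, fun h h' => colour_trans h h'⟩ }
  rw [← card_others hab, Nat.card_congr (Equiv.sigmaFiberEquiv (Quotient.mk s)).symm, Nat.card_sigma]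
  refine Finset.dvd_sum fun q _ => ?_
  induction q using Quotient.ind with
  | _ x =>
    refine dvd_of_eq ?_
    rw [colour_card_eq h3 H hab hca hcb x.2.1 x.2.2]
    exact Nat.card_congr
      { toFun := fun w => ⟨⟨w.1, colour_ne x.2.1 x.2.2 w.2⟩, Quotient.sound (colour_symm w.2)⟩
        invFun := fun w => ⟨w.1.1, colour_symm (Quotient.exact w.2)⟩
        left_inv := fun _ => rfl
        right_inv := fun _ => rfl }

end Colour

variable [Finite G] [Fintype Ω] [FaithfulSMul G Ω]

/-- Wagner's theorem in the form used here. -/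
theorem odd_case (h3 : IsMultiplyPretransitive G Ω 3) (hodd : Odd (Fintype.card Ω)) (h5 : 5 ≤ Fintype.card Ω)
    (H : Subgroup G) [hHn : H.Normal] (hH : H ≠ ⊥) : IsMultiplyPretransitive H Ω 3 := by
  classical
  let φ := toPermHom G Ω
  have hinj : Function.Injective φ := fun g g' e => eq_of_smul_eq_smul fun x : Ω => DFunLike.congr_fun e x
  haveI : (H.map φ.rangeRestrict).Normal := Subgroup.Normal.map hHn _ φ.rangeRestrict_surjective
  have hG : IsMultiplyPretransitive φ.range Ω 3 := by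
    refine ⟨fun x y => ?_⟩
    obtain ⟨g, hg⟩ := h3.exists_smul_eq x y
    exact ⟨⟨φ g, g, rfl⟩, Function.Embedding.ext fun i => DFunLike.congr_fun hg i⟩
  have h := Cfsg.Agent.S0699.result φ.range hodd h5 hG (H.map φ.rangeRestrict)
    (fun e => hH ((Subgroup.map_eq_bot_iff_of_injective H ((MonoidHom.rangeRestrict_injective_iff).mpr hinj)).mp e))
  refine ⟨fun x y => ?_⟩
  obtain ⟨⟨g', g, hg, rfl⟩, e⟩ := h.exists_smul_eq x y
  exact ⟨⟨g, hg⟩, Function.Embedding.ext fun i => DFunLike.congr_fun e i⟩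

/-- In even degree divisible by three a non-trivial normal subgroup is doubly transitive. -/
theorem two_transitive (h3 : IsMultiplyPretransitive G Ω 3) (hpos : 3 < Fintype.card Ω)
    (heven : Even (Fintype.card Ω)) (hdiv : 3 ∣ Fintype.card Ω) (H : Subgroup G) [hHn : H.Normal] (hH : H ≠ ⊥) :
    IsMultiplyPretransitive H Ω 2 := by
  classical
  haveI := two_of_three h3 hpos.le
  haveI : IsPretransitive G Ω := isPretransitive_of_is_two_pretransitive
  have htr := CfsgLib.PermNormal.pretransitive_of_normal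
    (isPreprimitive_of_is_two_pretransitive (inferInstance : IsMultiplyPretransitive G Ω 2)) H hH
  by_cases hreg : ∀ x : Ω, stabilizer H x = ⊥
  · exact (no_regular_normal h3 hpos heven hdiv H htr hreg).elim
  push Not at hreg
  obtain ⟨x₀, hx₀⟩ := hreg
  obtain ⟨k, hk, hk1⟩ := (Subgroup.bot_or_exists_ne_one _).resolve_left hx₀
  have key : ∀ a y z : Ω, y ≠ a → z ≠ a → ∃ h ∈ H, h • a = a ∧ h • y = z := by
    intro a y z hy hz
    obtain ⟨g, hg⟩ := exists_smul_eq G x₀ a
    set S := stabilizer G a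
    let X := SubMulAction.ofStabilizer G a
    haveI hS2 : IsMultiplyPretransitive S X 2 := SubMulAction.ofStabilizer.isMultiplyPretransitive.mp h3
    haveI : FaithfulSMul S X := ⟨fun {g g'} h => Subtype.ext (eq_of_smul_eq_smul fun x : Ω => by
      by_cases hx : x = a
      · rw [hx, show (g : G) • a = a from g.2, show (g' : G) • a = a from g'.2]
      · exact congrArg Subtype.val (h (⟨x, hx⟩ : X)))⟩
    haveI : (H.subgroupOf S).Normal := Subgroup.normal_subgroupOf
    have hne : H.subgroupOf S ≠ ⊥ := by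
      intro e
      have hmem : (⟨g * k * g⁻¹, by
          show (g * k * g⁻¹) • a = a
          rw [mul_smul, mul_smul, inv_smul_eq_iff.mpr hg.symm, show (k : G) • x₀ = x₀ from hk, hg]⟩ : S)
          ∈ H.subgroupOf S := hHn.conj_mem k k.2 g
      rw [e, Subgroup.mem_bot] at hmem
      exact hk1 (Subtype.ext (conj_eq_one_iff.mp (congrArg Subtype.val hmem)))
    obtain ⟨⟨w, hw⟩, e⟩ := (CfsgLib.PermNormal.pretransitive_of_normal
      (isPreprimitive_of_is_two_pretransitive hS2) (H.subgroupOf S) hne).exists_smul_eq (⟨y, hy⟩ : X) ⟨z, hz⟩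
    exact ⟨w, hw, w.2, congrArg Subtype.val e⟩
  rw [is_two_pretransitive_iff]
  intro x y z w hxy hzw
  obtain ⟨h, hh⟩ := htr.exists_smul_eq x z
  have hne : h • y ≠ z := fun e => hxy (smul_left_cancel h (hh.trans e.symm))
  obtain ⟨h', hh', e1, e2⟩ := key z (h • y) w hne hzw.symm
  exact ⟨⟨h', hh'⟩ * h, by rw [mul_smul, hh]; exact e1, by rw [mul_smul]; exact e2⟩

/-- Conjugacy of Sylow subgroups inside a subgroup. -/
theorem exists_conj_into {p : ℕ} [Fact p.Prime] (T A B : Subgroup G) (hA : A ≤ T) (hB : B ≤ T)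
    (hcA : Nat.card A = p ^ (Nat.card T).factorization p) (hcB : Nat.card B = p ^ (Nat.card T).factorization p) :
    ∃ t ∈ T, A.map (MulAut.conj t).toMonoidHom = B := by
  let PA : Sylow p T := Sylow.ofCard (A.subgroupOf T)
    (by rw [Nat.card_congr (Subgroup.subgroupOfEquivOfLe hA).toEquiv, hcA])
  let PB : Sylow p T := Sylow.ofCard (B.subgroupOf T)
    (by rw [Nat.card_congr (Subgroup.subgroupOfEquivOfLe hB).toEquiv, hcB])
  obtain ⟨t, ht⟩ := exists_smul_eq T PA PB
  refine ⟨t, t.2, ?_⟩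
  have h : (A.subgroupOf T).map (MulAut.conj t).toMonoidHom = B.subgroupOf T := by
    have := congrArg (fun P : Sylow p T => (P : Subgroup T)) ht
    simp [PA, PB, Sylow.coe_subgroup_smul, Subgroup.pointwise_smul_def] at this
    exact this
  have h' := congrArg (Subgroup.map T.subtype) h
  rw [Subgroup.map_map, Subgroup.subgroupOf_map_subtype, inf_eq_left.mpr hB] at h'
  rw [← h']
  conv_lhs => rw [← inf_eq_left.mpr hA, ← Subgroup.subgroupOf_map_subtype, Subgroup.map_map]
  rfl

set_option maxHeartbeats 1600000 in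
/-- The first clause in even degree. -/
theorem two_colours (h3 : IsMultiplyPretransitive G Ω 3) (hpos : 3 < Fintype.card Ω)
    (heven : Even (Fintype.card Ω)) (hdiv : 3 ∣ Fintype.card Ω) (H : Subgroup G) [hHn : H.Normal] (hH : H ≠ ⊥)
    {a b c : Ω} (hab : a ≠ b) (hca : c ≠ a) (hcb : c ≠ b) : Two H a b := by
  classical
  have hH2 := two_transitive h3 hpos heven hdiv H hH
  haveI : Fact (Nat.Prime 3) := ⟨Nat.prime_three⟩
  set k := Nat.card (colour H a b c) with hk
  have hk3 : ¬ 3 ∣ k := fun h => by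
    have := h.trans (colour_dvd h3 H hab hca hcb)
    omega
  set T := H ⊓ stabilizer G a ⊓ stabilizer G b ⊓ stabilizer G c with hT
  set Dab := H ⊓ stabilizer G a ⊓ stabilizer G b with hDab
  obtain ⟨Q⟩ : Nonempty (Sylow 3 T) := inferInstance
  set X := (Q : Subgroup T).map T.subtype with hX
  have hXT : X ≤ T := Subgroup.map_subtype_le _
  have hXcard : Nat.card X = 3 ^ (Nat.card T).factorization 3 := by
    rw [hX, Subgroup.card_map_of_injective T.subtype_injective, Q.card_eq_multiplicity]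
  have hX3 : IsPGroup 3 X := IsPGroup.of_card hXcard
  have hDcard : Nat.card Dab = k * Nat.card T := by
    have ho : Nat.card (orbit Dab c) = k := by
      refine Nat.card_congr (Equiv.setCongr (Set.ext fun x => ?_))
      constructor
      · rintro ⟨⟨d, ⟨hd, da⟩, db⟩, rfl⟩; exact ⟨d, hd, da, db, rfl⟩
      · rintro ⟨d, hd, da, db, rfl⟩; exact ⟨⟨d, ⟨hd, da⟩, db⟩, rfl⟩
    have hs : Nat.card (stabilizer Dab c) = Nat.card T :=
      Nat.card_congr
        { toFun := fun d => ⟨(d : Dab), ⟨(d : Dab).2, d.2⟩⟩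
          invFun := fun d => ⟨⟨d, d.2.1⟩, d.2.2⟩
          left_inv := fun _ => rfl
          right_inv := fun _ => rfl }
    rw [← ho, ← hs, ← Nat.card_prod, Nat.card_congr (orbitProdStabilizerEquivGroup Dab c)]
  have hfD : (Nat.card Dab).factorization 3 = (Nat.card T).factorization 3 := by
    rw [hDcard, Nat.factorization_mul (fun h => hk3 (by rw [h]; exact dvd_zero 3)) Nat.card_pos.ne', Finsupp.add_apply,
      Nat.factorization_eq_zero_of_not_dvd hk3, zero_add]
  set Φ : Set Ω := {x | ∀ g ∈ X, g • x = x} with hΦ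
  have hXa : ∀ g ∈ X, g • a = a ∧ g • b = b ∧ g • c = c ∧ g ∈ H := fun g hg =>
    ⟨(hXT hg).1.1.2, (hXT hg).1.2, (hXT hg).2, (hXT hg).1.1.1⟩
  have haΦ : a ∈ Φ := fun g hg => (hXa g hg).1
  have hbΦ : b ∈ Φ := fun g hg => (hXa g hg).2.1
  have hcΦ : c ∈ Φ := fun g hg => (hXa g hg).2.2.1
  -- every colour meets `Φ`
  have hmeet : ∀ x : Ω, x ≠ a → x ≠ b → ∃ y ∈ colour H a b x, y ∈ Φ := by
    intro x hxa hxb
    letI : MulAction X (colour H a b x) :=
      { smul := fun g y => ⟨(g : G) • y.1, colour_trans y.2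
          ⟨g, (hXa g g.2).2.2.2, (hXa g g.2).1, (hXa g g.2).2.1, rfl⟩⟩
        one_smul := fun y => Subtype.ext (one_smul G y.1)
        mul_smul := fun g h y => Subtype.ext (mul_smul (g : G) h y.1) }
    obtain ⟨y, hy⟩ := hX3.nonempty_fixed_point_of_prime_not_dvd_card (colour H a b x)
      (by rw [← colour_card_eq h3 H hab hca hcb hxa hxb]; exact hk3)
    exact ⟨y.1, y.2, fun g hg => congrArg Subtype.val (hy ⟨g, hg⟩)⟩
  -- the normaliser moves triples of `Φ`
  set N := Subgroup.normalizer (X : Set G) with hN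
  have hmove : ∀ (g : G) (x y z : Ω), x ∈ Φ → y ∈ Φ → z ∈ Φ → g • a = x → g • b = y → g • c = z →
      ∃ h ∈ H, h • x = x ∧ h • y = y ∧ h • z = z ∧ h * g ∈ N := by
    intro g x y z hx hy hz ga gb gc
    set T' := H ⊓ stabilizer G x ⊓ stabilizer G y ⊓ stabilizer G z
    have hTT : T.map (MulAut.conj g).toMonoidHom = T' := by
      ext w
      rw [map_conj_mem]
      simp only [T, T', Subgroup.mem_inf, mem_stabilizer_iff, mul_smul, ← ga, ← gb, ← gc, inv_smul_eq_iff]
      refine and_congr (and_congr (and_congr ⟨fun h => ?_, fun h => ?_⟩ Iff.rfl) Iff.rfl) Iff.rfl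
      · have := hHn.conj_mem _ h g
        simpa [mul_assoc] using this
      · simpa using hHn.conj_mem _ h g⁻¹
    have hc : Nat.card T' = Nat.card T := by
      rw [← hTT, Subgroup.card_map_of_injective (MulAut.conj g).injective]
    obtain ⟨h, hh, e⟩ := exists_conj_into (p := 3) T' (X.map (MulAut.conj g).toMonoidHom) X
      (hTT ▸ Subgroup.map_mono hXT)
      (fun w hw => ⟨⟨⟨(hXa w hw).2.2.2, hx w hw⟩, hy w hw⟩, hz w hw⟩)
      (by rw [Subgroup.card_map_of_injective (MulAut.conj g).injective, hXcard, hc]) (by rw [hXcard, hc])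
    refine ⟨h, hh.1.1.1, hh.1.1.2, hh.1.2, hh.2, ?_⟩
    rw [hN, Subgroup.mem_normalizer_iff]
    intro w
    conv_rhs => rw [← e, Subgroup.map_map]
    constructor
    · intro hw
      exact ⟨w, hw, by simp [mul_assoc]⟩
    · rintro ⟨w', hw', e'⟩
      have : w' = w := by
        have h1 : h * g * w' * (h * g)⁻¹ = h * g * w * (h * g)⁻¹ := by
          rw [← e']; simp [mul_assoc]
        exact mul_left_cancel (mul_right_cancel h1)
      rwa [← this]
  -- the congruence
  have hmod : Nat.card Φ % 3 = 0 := by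
    have h := hX3.card_modEq_card_fixedPoints Ω
    rw [Nat.card_eq_fintype_card, show fixedPoints X Ω = Φ from Set.ext fun x =>
      ⟨fun hx g hg => hx ⟨g, hg⟩, fun hx g => hx g g.2⟩] at h
    unfold Nat.ModEq at h
    omega
  by_cases hΦ3 : Nat.card Φ = 3
  · intro x y z hxa hxb hya hyb hza hzb
    have honly : ∀ w ∈ Φ, w ≠ a → w ≠ b → w = c := by
      intro w hw hwa hwb
      by_contra hwc
      have : 4 ≤ Nat.card Φ := by
        have h4 : ({a, b, c, w} : Finset Ω).card = 4 := by
          rw [Finset.card_insert_of_notMem, Finset.card_insert_of_notMem, Finset.card_pair (Ne.symm hwc)]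
          · simp [hcb.symm, hwb.symm]
          · simp [hab, hca.symm, hwa.symm]
        rw [← h4, ← Nat.card_eq_finsetCard]
        refine Nat.card_mono (Set.toFinite Φ) ?_
        intro u hu
        simp only [Finset.coe_insert, Finset.coe_singleton, Set.mem_insert_iff, Set.mem_singleton_iff] at hu
        rcases hu with rfl | rfl | rfl | rfl
        exacts [haΦ, hbΦ, hcΦ, hw]
      omega
    obtain ⟨x', hx', hxΦ⟩ := hmeet x hxa hxb
    obtain ⟨y', hy', hyΦ⟩ := hmeet y hya hyb
    obtain ⟨h1, h2⟩ := colour_ne hxa hxb hx'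
    obtain ⟨h3', h4⟩ := colour_ne hya hyb hy'
    rw [honly x' hxΦ h1 h2] at hx'
    rw [honly y' hyΦ h3' h4] at hy'
    exact Or.inl (colour_trans hx' (colour_symm hy'))
  have hΦpos : 3 < Nat.card Φ := by
    have : 3 ≤ Nat.card Φ := by
      have h4 : ({a, b, c} : Finset Ω).card = 3 := by
        rw [Finset.card_insert_of_notMem, Finset.card_pair hcb.symm]
        simp [hab, hca.symm]
      rw [← h4, ← Nat.card_eq_finsetCard]
      refine Nat.card_mono (Set.toFinite Φ) ?_
      intro u hu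
      simp only [Finset.coe_insert, Finset.coe_singleton, Set.mem_insert_iff, Set.mem_singleton_iff] at hu
      rcases hu with rfl | rfl | rfl
      exacts [haΦ, hbΦ, hcΦ]
    omega
  haveI : Fintype Φ := Fintype.ofFinite Φ
  rw [Nat.card_eq_fintype_card] at hΦpos hmod
  -- the action of the normaliser on `Φ`
  letI : MulAction N Φ :=
    { smul := fun g x => ⟨(g : G) • x.1, fun w hw => by
        have hw' : (g : G)⁻¹ * w * g ∈ X := by
          have := (Subgroup.mem_normalizer_iff.mp (inv_mem g.2) w).mp hw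
          simpa using this
        have h := x.2 _ hw'
        rwa [mul_smul, mul_smul, inv_smul_eq_iff] at h⟩
      one_smul := fun x => Subtype.ext (one_smul G x.1)
      mul_smul := fun g h x => Subtype.ext (mul_smul (g : G) h x.1) }
  set φ := toPermHom N Φ with hφ
  set H' := (H.subgroupOf N).map φ.rangeRestrict with hH'
  haveI : (H.subgroupOf N).Normal := Subgroup.normal_subgroupOf
  haveI : H'.Normal := Subgroup.Normal.map inferInstance _ φ.rangeRestrict_surjective
  have h3Φ : IsMultiplyPretransitive φ.range Φ 3 := by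
    refine ⟨fun x y => ?_⟩
    have key : ∀ x : Fin 3 ↪ Φ, ∃ n : N, (n : G) • a = x 0 ∧ (n : G) • b = x 1 ∧ (n : G) • c = x 2 := by
      intro x
      have hne : ∀ i j : Fin 3, i ≠ j → ((x i : Φ) : Ω) ≠ x j := fun i j hij e => hij (x.injective (Subtype.ext e))
      obtain ⟨g, g0, g1, g2⟩ := exists_three h3 hab hcb.symm hca.symm (hne 0 1 (by decide)) (hne 1 2 (by decide))
        (hne 0 2 (by decide))
      obtain ⟨h, -, e0, e1, e2, hn⟩ := hmove g _ _ _ (x 0).2 (x 1).2 (x 2).2 g0 g1 g2
      exact ⟨⟨h * g, hn⟩, by show (h * g) • a = _; rw [mul_smul, g0, e0],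
        by show (h * g) • b = _; rw [mul_smul, g1, e1], by show (h * g) • c = _; rw [mul_smul, g2, e2]⟩
    obtain ⟨n, n0, n1, n2⟩ := key x
    obtain ⟨n', m0, m1, m2⟩ := key y
    refine ⟨⟨φ (n' * n⁻¹), _, rfl⟩, Function.Embedding.ext fun i => Subtype.ext ?_⟩
    show ((n' * n⁻¹ : N) : G) • ((x i : Φ) : Ω) = y i
    rw [Subgroup.coe_mul, Subgroup.coe_inv, mul_smul]
    fin_cases i
    · exact (congrArg _ (inv_smul_eq_iff.mpr n0.symm)).trans m0
    · exact (congrArg _ (inv_smul_eq_iff.mpr n1.symm)).trans m1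
    · exact (congrArg _ (inv_smul_eq_iff.mpr n2.symm)).trans m2
  have hH' : H' ≠ ⊥ := by
    obtain ⟨⟨h, hh⟩, ha, hb⟩ := is_two_pretransitive_iff.mp hH2 hab hab.symm
    have hha : h • a = b := ha
    have hhb : h • b = a := hb
    have hle : X.map (MulAut.conj h).toMonoidHom ≤ Dab := by
      rintro _ ⟨w, hw, rfl⟩
      obtain ⟨wa, wb, -, wH⟩ := hXa w hw
      refine ⟨⟨hHn.conj_mem w wH h, ?_⟩, ?_⟩
      · show (h * w * h⁻¹) • a = a
        rw [mul_smul, mul_smul, inv_smul_eq_iff.mpr hhb.symm, wb, hhb]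
      · show (h * w * h⁻¹) • b = b
        rw [mul_smul, mul_smul, inv_smul_eq_iff.mpr hha.symm, wa, hha]
    obtain ⟨t, ht, e⟩ := exists_conj_into (p := 3) Dab _ X hle (hXT.trans inf_le_left)
      (by rw [Subgroup.card_map_of_injective (MulAut.conj h).injective, hXcard, hfD]) (by rw [hXcard, hfD])
    have hn : t * h ∈ N := by
      rw [hN, Subgroup.mem_normalizer_iff]
      intro w
      conv_rhs => rw [← e, Subgroup.map_map]
      constructor
      · intro hw
        exact ⟨w, hw, by simp [mul_assoc]⟩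
      · rintro ⟨w', hw', e'⟩
        have : w' = w := by
          have h1 : t * h * w' * (t * h)⁻¹ = t * h * w * (t * h)⁻¹ := by
            rw [← e']; simp [mul_assoc]
          exact mul_left_cancel (mul_right_cancel h1)
        rwa [← this]
    intro ebot
    have hmem : φ.rangeRestrict ⟨t * h, hn⟩ ∈ H' :=
      ⟨⟨t * h, hn⟩, mul_mem ht.1.1 hh, rfl⟩
    rw [ebot, Subgroup.mem_bot] at hmem
    have := congrArg (fun q : φ.range => ((q : Equiv.Perm Φ) ⟨a, haΦ⟩ : Ω)) hmem
    have h' : (t * h) • a = a := this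
    rw [mul_smul, hha, show t • b = b from ht.2] at h'
    exact hab h'.symm
  -- two colours on `Φ`
  have hΦtwo : Two H' (⟨a, haΦ⟩ : Φ) ⟨b, hbΦ⟩ := by
    have hab' : (⟨a, haΦ⟩ : Φ) ≠ ⟨b, hbΦ⟩ := fun e => hab (congrArg Subtype.val e)
    have hca' : (⟨c, hcΦ⟩ : Φ) ≠ ⟨a, haΦ⟩ := fun e => hca (congrArg Subtype.val e)
    have hcb' : (⟨c, hcΦ⟩ : Φ) ≠ ⟨b, hbΦ⟩ := fun e => hcb (congrArg Subtype.val e)
    have hdiv' : 3 ∣ Fintype.card Φ := Nat.dvd_of_mod_eq_zero hmod
    rcases Nat.even_or_odd (Fintype.card Φ) with hev | hod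
    · refine two_of_bound h3Φ H' hab' hca' hcb' ?_
      have h3a : ¬ 3 ∣ Nat.card ↥(H' ⊓ stabilizer φ.range (⟨a, haΦ⟩ : Φ)) := by
        set S := H.subgroupOf N ⊓ stabilizer N (⟨a, haΦ⟩ : Φ) with hS
        set ψ := φ.rangeRestrict.comp S.subtype with hψ
        have hrange : ψ.range = H' ⊓ stabilizer φ.range (⟨a, haΦ⟩ : Φ) := by
          ext q
          constructor
          · rintro ⟨s, rfl⟩
            exact ⟨⟨s, s.2.1, rfl⟩, s.2.2⟩
          · rintro ⟨⟨n, hn, rfl⟩, hq⟩
            exact ⟨⟨n, hn, hq⟩, rfl⟩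
        rw [← hrange]
        intro hd
        have hker : Nat.card X ∣ Nat.card ψ.ker := by
          let f : X →* ψ.ker :=
            { toFun := fun x => ⟨⟨⟨x, Subgroup.le_normalizer x.2⟩, (hXa x x.2).2.2.2,
                  Subtype.ext (hXa x x.2).1⟩,
                Subtype.ext (Equiv.ext fun y => Subtype.ext (y.2 x x.2))⟩
              map_one' := rfl
              map_mul' := fun _ _ => rfl }
          exact Subgroup.card_dvd_of_injective f fun x y e => Subtype.ext
            (congrArg (fun q : ψ.ker => (((q : S) : N) : G)) e)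
        have h1 : Nat.card X * 3 ∣ Nat.card S := by
          rw [← Subgroup.card_mul_index ψ.ker, Subgroup.index_ker]
          exact mul_dvd_mul hker hd
        have h2 : Nat.card S ∣ Nat.card ↥(H ⊓ stabilizer G a) := by
          let f : S →* ↥(H ⊓ stabilizer G a) :=
            { toFun := fun s => ⟨((s : N) : G), s.2.1, congrArg Subtype.val s.2.2⟩
              map_one' := rfl
              map_mul' := fun _ _ => rfl }
          exact Subgroup.card_dvd_of_injective f fun x y e => Subtype.ext (Subtype.ext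
            (congrArg (fun q : ↥(H ⊓ stabilizer G a) => (q : G)) e))
        have h3' : Nat.card ↥(H ⊓ stabilizer G a) = (Fintype.card Ω - 1) * Nat.card Dab := by
          set Sa := H ⊓ stabilizer G a with hSa
          have ho : Nat.card (orbit Sa b) = Fintype.card Ω - 1 := by
            rw [show Fintype.card Ω - 1 = Nat.card {x : Ω // x ≠ a} by
              rw [Nat.card_eq_fintype_card, Fintype.card_subtype_compl, Fintype.card_subtype_eq]]
            refine Nat.card_congr (Equiv.subtypeEquivRight fun x => ⟨?_, fun hx => ?_⟩)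
            · rintro ⟨⟨s, -, sa⟩, rfl⟩
              intro e
              change s • b = a at e
              exact hab.symm (smul_left_cancel s (e.trans sa.symm))
            · obtain ⟨h, e1, e2⟩ := is_two_pretransitive_iff.mp hH2 hab (Ne.symm hx)
              exact ⟨⟨h, h.2, e1⟩, e2⟩
          have hs : Nat.card (stabilizer Sa b) = Nat.card Dab :=
            Nat.card_congr
              { toFun := fun d => ⟨(d : Sa), ⟨(d : Sa).2, d.2⟩⟩
                invFun := fun d => ⟨⟨d, d.2.1⟩, d.2.2⟩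
                left_inv := fun _ => rfl
                right_inv := fun _ => rfl }
          rw [← ho, ← hs, ← Nat.card_prod, Nat.card_congr (orbitProdStabilizerEquivGroup Sa b)]
        have h4 := h1.trans h2
        rw [h3', hDcard, hXcard, ← pow_succ] at h4
        have hfac := (Nat.Prime.pow_dvd_iff_le_factorization Nat.prime_three (Nat.mul_pos (by omega)
          (Nat.mul_pos (Nat.pos_of_ne_zero fun e => hk3 (by rw [e]; exact dvd_zero 3)) Nat.card_pos)).ne').mp h4
        rw [Nat.factorization_mul (by omega) (Nat.mul_pos (Nat.pos_of_ne_zero fun e => hk3 (by rw [e]; exact dvd_zero 3))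
          Nat.card_pos).ne', Nat.factorization_mul (fun e => hk3 (by rw [e]; exact dvd_zero 3)) Nat.card_pos.ne',
          Finsupp.add_apply, Finsupp.add_apply, Nat.factorization_eq_zero_of_not_dvd hk3,
          Nat.factorization_eq_zero_of_not_dvd (show ¬ 3 ∣ Fintype.card Ω - 1 by omega)] at hfac
        omega
      rcases stabiliser_case h3Φ hΦpos hev hdiv' H' (two_transitive h3Φ hΦpos hev hdiv' H' hH') hab' hca' hcb'
        (Or.inr h3a) with h | ⟨h, -⟩ <;> omega
    · haveI := odd_case h3Φ hod (by omega) H' hH'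
      intro x y z hxa hxb hya hyb hza hzb
      obtain ⟨⟨g, hg⟩, g0, g1, g2⟩ := exists_three (inferInstance : IsMultiplyPretransitive H' Φ 3) hab' hxb.symm
        hxa.symm hab' hyb.symm hya.symm
      exact Or.inl ⟨g, hg, g0, g1, g2⟩
  have hlift : ∀ x y : Φ, y ∈ colour H' (⟨a, haΦ⟩ : Φ) ⟨b, hbΦ⟩ x → (y : Ω) ∈ colour H a b x := by
    rintro x y ⟨_, ⟨n, hn, rfl⟩, ea, eb, ex⟩
    exact ⟨n, hn, congrArg Subtype.val ea, congrArg Subtype.val eb, congrArg Subtype.val ex⟩
  intro x y z hxa hxb hya hyb hza hzb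
  obtain ⟨x', hx', hxΦ⟩ := hmeet x hxa hxb
  obtain ⟨y', hy', hyΦ⟩ := hmeet y hya hyb
  obtain ⟨z', hz', hzΦ⟩ := hmeet z hza hzb
  obtain ⟨x1, x2⟩ := colour_ne hxa hxb hx'
  obtain ⟨y1, y2⟩ := colour_ne hya hyb hy'
  obtain ⟨z1, z2⟩ := colour_ne hza hzb hz'
  rcases hΦtwo ⟨x', hxΦ⟩ ⟨y', hyΦ⟩ ⟨z', hzΦ⟩ (fun e => x1 (congrArg Subtype.val e))
    (fun e => x2 (congrArg Subtype.val e)) (fun e => y1 (congrArg Subtype.val e))
    (fun e => y2 (congrArg Subtype.val e)) (fun e => z1 (congrArg Subtype.val e))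
    (fun e => z2 (congrArg Subtype.val e)) with h | h | h
  · exact Or.inl (colour_trans (colour_trans hx' (hlift _ _ h)) (colour_symm hy'))
  · exact Or.inr (Or.inl (colour_trans (colour_trans hy' (hlift _ _ h)) (colour_symm hz')))
  · exact Or.inr (Or.inr (colour_trans (colour_trans hx' (hlift _ _ h)) (colour_symm hz')))

/-- Generous transitivity bounds the parity of the colours. -/
theorem no_odd_colours (h3 : IsMultiplyPretransitive G Ω 3) (hpos : 3 < Fintype.card Ω) (H : Subgroup G)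
    [hHn : H.Normal] {a b c d : Ω} (hab : a ≠ b) (hca : c ≠ a) (hcb : c ≠ b) (hda : d ≠ a) (hdb : d ≠ b)
    (hd : d ∉ colour H a b c) (hodd : Odd (Nat.card (colour H a b c)))
    (hev : Even (Nat.card ↥(H ⊓ stabilizer G a))) : False := by
  classical
  haveI : Fact (Nat.Prime 2) := ⟨Nat.prime_two⟩
  obtain ⟨⟨s, hsH, hsa⟩, hs⟩ := exists_prime_orderOf_dvd_card' 2 hev.two_dvd
  replace hs : orderOf s = 2 := by rwa [← Subgroup.orderOf_coe] at hs
  have hss : s * s = 1 := by rw [← sq, ← hs, pow_orderOf_eq_one]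
  obtain ⟨y, hy⟩ : ∃ y : Ω, s • y ≠ y := by
    by_contra! h
    have : s = 1 := eq_of_smul_eq_smul fun y : Ω => by rw [h y, one_smul]
    rw [this, orderOf_one] at hs
    norm_num at hs
  have hay : a ≠ y := fun e => hy (e ▸ hsa)
  have haz : a ≠ s • y := fun e => hay (smul_left_cancel s (((show s • a = a from hsa)).trans e))
  have hswap : ∀ u v w : Ω, u ≠ v → v ≠ w → u ≠ w → ∃ h ∈ H, h • u = u ∧ h • v = w ∧ h • w = v := by
    intro u v w huv hvw huw
    obtain ⟨g, gu, gv, gw⟩ := exists_three h3 hay hy.symm haz huv hvw huw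
    refine ⟨g * s * g⁻¹, hHn.conj_mem s hsH g, ?_, ?_, ?_⟩
    · rw [mul_smul, mul_smul, inv_smul_eq_iff.mpr gu.symm, show s • a = a from hsa, gu]
    · rw [mul_smul, mul_smul, inv_smul_eq_iff.mpr gv.symm, gw]
    · rw [mul_smul, mul_smul, inv_smul_eq_iff.mpr gw.symm, ← mul_smul s s, hss, one_smul, gv]
  haveI : FaithfulSMul H Ω := ⟨fun h => Subtype.ext (FaithfulSMul.eq_of_smul_eq_smul (α := Ω) h)⟩
  let φ := toPermHom H Ω
  have hgen : ∀ t : Finset Ω, t.card = 2 + 1 → ∀ σ : Equiv.Perm ↥t, ∃ g ∈ φ.range, ∀ x : ↥t, g (x : Ω) = σ x := by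
    intro t ht σ
    induction σ using Equiv.Perm.swap_induction_on with
    | one => exact ⟨1, one_mem _, fun x => rfl⟩
    | swap_mul f p q hpq ih =>
      obtain ⟨g, hg, hgf⟩ := ih
      obtain ⟨r, hr⟩ : ∃ r : Ω, r ∈ t ∧ r ≠ p ∧ r ≠ q := by
        by_contra! hcon
        have hsub : t ⊆ {(p : Ω), (q : Ω)} := fun r hr => by
          by_cases e : r = p
          · simp [e]
          · simp [hcon r hr e]
        have := (Finset.card_le_card hsub).trans Finset.card_le_two
        omega
      have hpq' : (p : Ω) ≠ q := fun e => hpq (Subtype.ext e)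
      obtain ⟨h, hh, hr0, hp, hq⟩ := hswap r p q hr.2.1 hpq' hr.2.2
      refine ⟨φ ⟨h, hh⟩ * g, mul_mem ⟨_, rfl⟩ hg, fun x => ?_⟩
      show h • g (x : Ω) = ((Equiv.swap p q * f) x : Ω)
      rw [hgf x, Equiv.Perm.mul_apply]
      rcases eq_or_ne (f x) p with e | e
      · rw [e, Equiv.swap_apply_left]; exact hp
      rcases eq_or_ne (f x) q with e' | e'
      · rw [e', Equiv.swap_apply_right]; exact hq
      rw [Equiv.swap_apply_of_ne_of_ne e e']
      have hfr : (f x : Ω) = r := by
        by_contra hne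
        have hp1 : (f x : Ω) ≠ p := fun e2 => e (Subtype.ext e2)
        have hq1 : (f x : Ω) ≠ q := fun e2 => e' (Subtype.ext e2)
        have hsub : ({(f x : Ω), (p : Ω), (q : Ω), r} : Finset Ω) ⊆ t := by
          intro w hw
          simp only [Finset.mem_insert, Finset.mem_singleton] at hw
          rcases hw with rfl | rfl | rfl | rfl
          exacts [(f x).2, p.2, q.2, hr.1]
        have h4 : ({(f x : Ω), (p : Ω), (q : Ω), r} : Finset Ω).card = 4 := by
          simp [Finset.card_insert_of_notMem, hne, hp1, hq1, hpq', Ne.symm hr.2.1, Ne.symm hr.2.2]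
        have := Finset.card_le_card hsub
        omega
      rw [hfr]; exact hr0
  have horb : ∀ x : Ω, orbit (fixingSubgroup φ.range (({a, b} : Finset Ω) : Set Ω)) x = colour H a b x := by
    intro x
    ext w
    constructor
    · rintro ⟨⟨⟨_, h, rfl⟩, hfix⟩, rfl⟩
      have hf := mem_fixingSubgroup_iff _ |>.mp hfix
      exact ⟨h, h.2, hf a (by simp), hf b (by simp), rfl⟩
    · rintro ⟨h, hh, ha, hb, rfl⟩
      refine ⟨⟨⟨φ ⟨h, hh⟩, _, rfl⟩, (mem_fixingSubgroup_iff _).mpr fun z hz => ?_⟩, rfl⟩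
      simp only [Finset.coe_insert, Finset.coe_singleton, Set.mem_insert_iff, Set.mem_singleton_iff] at hz
      rcases hz with rfl | rfl
      exacts [ha, hb]
  have hcard : ({a, b} : Finset Ω).card = 2 := Finset.card_pair hab
  obtain ⟨i, hi⟩ := Cfsg.Agent.S0706.result φ.range (k := 2) (by omega) hgen Nat.prime_two le_rfl {a, b} hcard
    ![c, d] (fun i => by fin_cases i <;> simp [hca, hcb, hda, hdb]) (fun i j hij => by
      rw [horb]
      fin_cases i <;> fin_cases j
      · exact absurd rfl hij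
      · exact hd
      · exact fun h => hd (colour_symm h)
      · exact absurd rfl hij)
  rw [horb] at hi
  fin_cases i
  · exact Nat.not_even_iff_odd.mpr hodd (even_iff_two_dvd.mpr hi)
  · refine Nat.not_even_iff_odd.mpr hodd (even_iff_two_dvd.mpr ?_)
    rw [colour_card_eq h3 H hab hca hcb hda hdb]
    exact hi

/-- Bannai's theorem. -/
theorem bannai (h3 : IsMultiplyPretransitive G Ω 3) (hdiv : 3 ∣ Fintype.card Ω) (hpos : 3 < Fintype.card Ω)
    (H : Subgroup G) [hHn : H.Normal] (hH : H ≠ ⊥) :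
    Nat.card (orbitRel.Quotient ↥H (Fin 3 ↪ Ω)) ≤ 2 ∧
      (Fintype.card Ω % 4 ≠ 2 → IsMultiplyPretransitive ↥H Ω 3 ∨
        ∃ (N : Subgroup ↥H) (F : Type) (_ : Field F) (_ : Fintype F), N.Normal ∧
          Fintype.card F + 1 = Fintype.card Ω ∧
          Nonempty (↥N ≃* Matrix.ProjectiveSpecialLinearGroup (Fin 2) F)) := by
  classical
  rcases Nat.even_or_odd (Fintype.card Ω) with heven | hodd
  swap
  · haveI := odd_case h3 hodd (by omega) H hH
    refine ⟨?_, fun _ => Or.inl inferInstance⟩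
    have : Subsingleton (orbitRel.Quotient ↥H (Fin 3 ↪ Ω)) := ⟨fun p q => by
      induction p using Quotient.ind with
      | _ x =>
        induction q using Quotient.ind with
        | _ y =>
          obtain ⟨g, hg⟩ := MulAction.exists_smul_eq H y x
          exact Quotient.sound ⟨g, hg⟩⟩
    exact (Finite.card_le_one_iff_subsingleton.mpr this).trans one_le_two
  have hH2 := two_transitive h3 hpos heven hdiv H hH
  obtain ⟨a, b, c, hab, hac, hbc⟩ := Fintype.two_lt_card_iff.mp (show 2 < Fintype.card Ω by omega)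
  have hTwo := two_colours h3 hpos heven hdiv H hH hab hac.symm hbc.symm
  have hnorm : ∀ t : Fin 3 ↪ Ω, ∃ h : H, h • t 0 = a ∧ h • t 1 = b := fun t =>
    is_two_pretransitive_iff.mp hH2 (fun e => absurd (t.injective e) (by decide)) hab
  choose mv hmv0 hmv1 using hnorm
  have hne : ∀ t : Fin 3 ↪ Ω, mv t • t 2 ≠ a ∧ mv t • t 2 ≠ b := fun t =>
    ⟨fun e => absurd (t.injective (smul_left_cancel (mv t) (e.trans (hmv0 t).symm))) (by decide),
      fun e => absurd (t.injective (smul_left_cancel (mv t) (e.trans (hmv1 t).symm))) (by decide)⟩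
  have hrel : ∀ t t' : Fin 3 ↪ Ω, mv t • t 2 ∈ colour H a b (mv t' • t' 2) →
      (⟦t⟧ : orbitRel.Quotient ↥H (Fin 3 ↪ Ω)) = ⟦t'⟧ := by
    rintro t t' ⟨g, hg, ga, gb, gc⟩
    refine Quotient.sound ⟨(mv t)⁻¹ * ⟨g, hg⟩ * mv t', Function.Embedding.ext fun i => ?_⟩
    show ((mv t)⁻¹ * ⟨g, hg⟩ * mv t') • t' i = t i
    rw [mul_smul, mul_smul, inv_smul_eq_iff]
    fin_cases i
    · show (⟨g, hg⟩ : H) • mv t' • t' 0 = mv t • t 0
      rw [hmv0, hmv0]; exact ga
    · show (⟨g, hg⟩ : H) • mv t' • t' 1 = mv t • t 1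
      rw [hmv1, hmv1]; exact gb
    · exact gc
  refine ⟨?_, fun hn4 => ?_⟩
  · by_contra hcon
    rw [not_le, Nat.card_eq_fintype_card] at hcon
    obtain ⟨p, q, r, hpq, hpr, hqr⟩ := Fintype.two_lt_card_iff.mp hcon
    obtain ⟨x, rfl⟩ := Quotient.exists_rep p
    obtain ⟨y, rfl⟩ := Quotient.exists_rep q
    obtain ⟨z, rfl⟩ := Quotient.exists_rep r
    rcases hTwo _ _ _ (hne x).1 (hne x).2 (hne y).1 (hne y).2 (hne z).1 (hne z).2 with h | h | h
    · exact hpq (hrel y x h).symm
    · exact hqr (hrel z y h).symm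
    · exact hpr (hrel z x h).symm
  by_cases hall : ∀ x : Ω, x ≠ a → x ≠ b → x ∈ colour H a b c
  · left
    refine ⟨fun t t' => ?_⟩
    have h := hrel t' t (colour_trans (colour_symm (hall _ (hne t).1 (hne t).2)) (hall _ (hne t').1 (hne t').2))
    obtain ⟨g, hg⟩ := Quotient.exact h
    exact ⟨g, hg⟩
  push Not at hall
  obtain ⟨d, hda, hdb, hd⟩ := hall
  set k := Nat.card (colour H a b c) with hk
  have hsum : 2 * k ≤ Fintype.card Ω - 2 := by
    have hinj : Function.Injective (Sum.elim (fun w => (⟨w.1, colour_ne hac.symm hbc.symm w.2⟩ : {w : Ω // w ≠ a ∧ w ≠ b}))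
        (fun w => ⟨w.1, colour_ne hda hdb w.2⟩) : colour H a b c ⊕ colour H a b d → _) := by
      rintro (⟨p, hp⟩ | ⟨p, hp⟩) (⟨q, hq⟩ | ⟨q, hq⟩) e <;>
        obtain rfl : p = q := congrArg (fun w : {w : Ω // w ≠ a ∧ w ≠ b} => w.1) e
      · rfl
      · exact absurd (colour_trans hp (colour_symm hq)) hd
      · exact absurd (colour_trans hq (colour_symm hp)) hd
      · rfl
    have h := Nat.card_le_card_of_injective _ hinj
    rw [card_others hab, Nat.card_sum, ← colour_card_eq h3 H hab hac.symm hbc.symm hda hdb] at h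
    omega
  have hle : Fintype.card Ω - 2 ≤ 2 * k := by
    let f : colour H a b c ⊕ colour H a b d → {w : Ω // w ≠ a ∧ w ≠ b} :=
      Sum.elim (fun w => ⟨w.1, colour_ne hac.symm hbc.symm w.2⟩) (fun w => ⟨w.1, colour_ne hda hdb w.2⟩)
    have hf : Function.Surjective f := by
      rintro ⟨w, hwa, hwb⟩
      rcases hTwo c d w hac.symm hbc.symm hda hdb hwa hwb with h | h | h
      · exact absurd h hd
      · exact ⟨Sum.inr ⟨w, h⟩, rfl⟩
      · exact ⟨Sum.inl ⟨w, h⟩, rfl⟩
    have h := Nat.card_le_card_of_surjective f hf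
    rw [card_others hab, Nat.card_sum, ← colour_card_eq h3 H hab hac.symm hbc.symm hda hdb] at h
    omega
  right
  have hkodd : Odd k := by
    obtain ⟨j, hj⟩ := heven
    rw [Nat.odd_iff]
    omega
  have hHa : Odd (Nat.card ↥(H ⊓ stabilizer G a)) := by
    rw [← Nat.not_even_iff_odd]
    exact fun hev => no_odd_colours h3 hpos H hab hac.symm hbc.symm hda hdb hd hkodd hev
  rcases stabiliser_case h3 hpos heven hdiv H hH2 hab hac.symm hbc.symm (Or.inl hHa) with h | ⟨-, h⟩
  · exfalso
    rw [← hk] at h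
    omega
  · exact h

end CfsgLib.BannaiThree
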