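import Mathlib
import Cfsg.Agent.Lib.Suzuki.Solvable
import Cfsg.Agent.Lib.Suzuki.Lie
import Cfsg.Agent.Lib.S3Simple.Classification
import Cfsg.Agent.Lib.S3Simple.Rows
import Cfsg.Agent.Lib.S3Simple.Facts

/-!
Simple 3'-groups: one class of involutions, and elements of odd prime order are real.
-/

set_option autoImplicit false
set_option linter.style.haveILetI false

namespace CfsgLib.BannaiThree

open CfsgLib.Suzuki

universe u

variable {F : Type} [Field F] [Fintype F] {m : ℕ}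

/-- In a Suzuki group every odd prime divisor of the order is the order of a real element. -/
theorem sz_real (hF : Fintype.card F = 2 ^ (2 * m + 1)) (hm : 1 ≤ m) {l : ℕ} (hl : l.Prime) (hl2 : l ≠ 2)
    (hd : l ∣ Nat.card ↥(Cfsg.Sz F m)) :
    ∃ x g : ↥(Cfsg.Sz F m), orderOf x = l ∧ g * x * g⁻¹ = x⁻¹ := by
  haveI := Fact.mk hl
  obtain ⟨z, hz⟩ := exists_prime_orderOf_dvd_card' l hd
  have hz1 : z ≠ 1 := fun e => by rw [e, orderOf_one] at hz; exact hl.ne_one hz.symm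
  have hss : SS hF z := ⟨hz1, fun h => by
    have h2 := orderOf_dvd_of_conjSet _ h
    rw [hz, card_U hF, ← pow_mul] at h2
    exact hl2 ((Nat.prime_dvd_prime_iff_eq hl Nat.prime_two).mp (hl.dvd_of_dvd_pow h2))⟩
  obtain ⟨c, hc, hcyc, -, hN⟩ := ss_data hF hm hss
  set A := Subgroup.centralizer ({z} : Set ↥(Cfsg.Sz F m)) with hA
  set N := Subgroup.normalizer (A : Set ↥(Cfsg.Sz F m)) with hNdef
  have hzA : z ∈ A := Subgroup.mem_centralizer_singleton_iff.mpr rfl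
  haveI : (A.subgroupOf N).Normal := Subgroup.normal_in_normalizer
  have hQ : Nat.card (N ⧸ A.subgroupOf N) = c := by
    have h1 := Subgroup.card_eq_card_quotient_mul_card_subgroup (A.subgroupOf N)
    rw [Nat.card_congr (Subgroup.subgroupOfEquivOfLe Subgroup.le_normalizer).toEquiv, hN] at h1
    exact (Nat.eq_of_mul_eq_mul_right Nat.card_pos h1).symm
  haveI : Fact (Nat.Prime 2) := ⟨Nat.prime_two⟩
  obtain ⟨q, hq⟩ := exists_prime_orderOf_dvd_card' (G := N ⧸ A.subgroupOf N) 2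
    (by rw [hQ]; rcases hc with rfl | rfl <;> norm_num)
  obtain ⟨g, rfl⟩ := QuotientGroup.mk_surjective q
  have hgA : (g : ↥(Cfsg.Sz F m)) ∉ A := fun h => by
    rw [show (QuotientGroup.mk g : N ⧸ A.subgroupOf N) = 1 from (QuotientGroup.eq_one_iff g).mpr h,
      orderOf_one] at hq
    norm_num at hq
  have hg2 : (g : ↥(Cfsg.Sz F m)) * g ∈ A := by
    have h := pow_orderOf_eq_one (QuotientGroup.mk g : N ⧸ A.subgroupOf N)
    rw [hq, sq, ← QuotientGroup.mk_mul, QuotientGroup.eq_one_iff] at h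
    exact h
  refine ⟨z, g, hz, ?_⟩
  set w := (g : ↥(Cfsg.Sz F m)) * z * (g : ↥(Cfsg.Sz F m))⁻¹ with hw
  have hwA : w ∈ A := (Subgroup.mem_normalizer_iff.mp g.2 z).mp hzA
  haveI := hcyc
  letI : CommGroup A := IsCyclic.commGroup
  have hcomm : ∀ a ∈ A, ∀ b ∈ A, a * b = b * a := fun a ha b hb =>
    congrArg Subtype.val (mul_comm (⟨a, ha⟩ : A) ⟨b, hb⟩)
  have hgw : (g : ↥(Cfsg.Sz F m)) * w * (g : ↥(Cfsg.Sz F m))⁻¹ = z := by
    calc (g : ↥(Cfsg.Sz F m)) * w * (g : ↥(Cfsg.Sz F m))⁻¹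
        = ((g : ↥(Cfsg.Sz F m)) * g) * z * ((g : ↥(Cfsg.Sz F m)) * g)⁻¹ := by rw [hw]; group
      _ = z := by rw [hcomm _ hg2 _ hzA, mul_inv_cancel_right]
  have hu : w * z ∈ A := mul_mem hwA hzA
  by_cases h1 : w * z = 1
  · exact mul_eq_one_iff_eq_inv.mp h1
  · refine absurd ?_ hgA
    rw [hA, ← (ss_centralizer_eq hF hm hss hu h1).2, Subgroup.mem_centralizer_singleton_iff]
    calc (g : ↥(Cfsg.Sz F m)) * (w * z)
        = ((g : ↥(Cfsg.Sz F m)) * w * (g : ↥(Cfsg.Sz F m))⁻¹) * w * g := by rw [hw]; group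
      _ = w * z * g := by rw [hgw, hcomm z hzA w hwA]

/-- A simple `3'`-group is a Suzuki group, up to isomorphism. -/
theorem exists_sz {T : Type u} [Group T] [Finite T] [IsSimpleGroup T] (hna : ¬ IsMulCommutative T)
    (h3 : ¬ 3 ∣ Nat.card T) :
    ∃ (F : Type) (_ : Field F) (_ : Fintype F) (m : ℕ), 1 ≤ m ∧ Fintype.card F = 2 ^ (2 * m + 1) ∧
      Nonempty (T ≃* ↥(Cfsg.Lie.Sz F (2 ^ (m + 1)))) := by
  have hl := CfsgLib.S3Simple.classify T inferInstance hna (CfsgLib.S3Simple.free_of_not_three h3)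
  rcases CfsgLib.S3Simple.suzuki_or_three hl with hz | ⟨hd, -⟩
  · exact hz
  · exact absurd hd h3

/-- One class of involutions and real elements of every odd prime order. -/
theorem three_prime_facts {T : Type u} [Group T] [Finite T] [IsSimpleGroup T] (hna : ¬ IsMulCommutative T)
    (h3 : ¬ 3 ∣ Nat.card T) :
    (∀ x y : T, orderOf x = 2 → orderOf y = 2 → IsConj x y) ∧
      ∀ l : ℕ, l.Prime → l ≠ 2 → l ∣ Nat.card T → ∃ x g : T, orderOf x = l ∧ g * x * g⁻¹ = x⁻¹ := by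
  obtain ⟨F, i1, i2, m, hm, hc, ⟨e0⟩⟩ := exists_sz hna h3
  let e := e0.trans (Suzuki.lieEquiv hc hm).symm
  refine ⟨fun x y hx hy => ?_, fun l hl hl2 hd => ?_⟩
  · obtain ⟨g, hg⟩ := fused hc hm (j := 2) (Or.inl rfl) (x := e x) (y := e y)
      (by rw [e.orderOf_eq, hx]) (by rw [e.orderOf_eq, hy])
    have hy' : (e y)⁻¹ = e y := by
      rw [inv_eq_iff_mul_eq_one, ← sq, ← map_pow, ← hy, pow_orderOf_eq_one, map_one]
    rw [hy', or_self] at hg
    refine isConj_iff.mpr ⟨e.symm g, e.injective ?_⟩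
    rw [map_mul, map_mul, map_inv, e.apply_symm_apply, hg]
  · obtain ⟨x, g, hx, hg⟩ := sz_real hc hm hl hl2 (by rwa [← Nat.card_congr e.toEquiv])
    exact ⟨e.symm x, e.symm g, by rw [e.symm.orderOf_eq, hx],
      by rw [← map_mul, ← map_inv, ← map_mul, hg, map_inv]⟩

end CfsgLib.BannaiThree
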