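import Cfsg.Agent.Lib.BannaiThree.OddDim
import Cfsg.Agent.Lib.BannaiThree.SuzukiFacts
import Cfsg.Agent.Lib.Blocks.KThree.Arith
import Cfsg.Agent.Lib.Components
import Cfsg.Agent.Lib.OddOrder.FeitThompson

/-!
A normal 3'-subgroup of a transitive linear group of odd dimension over an odd prime field is solvable.
-/

set_option autoImplicit false
set_option linter.unusedSectionVars false
set_option linter.style.haveILetI false

namespace CfsgLib.BannaiThree

open Module CfsgLib.Blocks.KThree

universe u v

theorem map_conj_mem {Q : Type u} [Group Q] {N : Subgroup Q} {g x : Q} :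
    x ∈ N.map (MulAut.conj g).toMonoidHom ↔ g⁻¹ * x * g ∈ N := by
  constructor
  · rintro ⟨n, hn, rfl⟩
    simpa [mul_assoc] using hn
  · intro h
    exact ⟨_, h, by simp [mul_assoc]⟩

/-- The group-theoretic core: an automorphism of prime order `l` without central fixed involutions on a
non-solvable `3'`-group forces a real element of order `l`. -/
theorem section_false {Q : Type u} [Group Q] [Finite Q] (y : Q) {l : ℕ} (hl : l.Prime) (hl2 : l ≠ 2)
    (hy : y ^ l = 1) (T : Subgroup Q) (hyT : ∀ t ∈ T, y * t * y⁻¹ ∈ T) (hT : T ≠ ⊥)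
    (hrad : ∀ N : Subgroup Q, N ≤ T → T ≤ Subgroup.normalizer (N : Set Q) → Group.IsSolvable N → N = ⊥)
    (h3 : ¬ 3 ∣ Nat.card T)
    (hfix : ∀ w ∈ T, orderOf w = 2 → y * w = w * y → w ∈ Subgroup.center Q)
    (hreal : ∀ x ∈ T, ∀ g ∈ T, orderOf x = l → g * x * g⁻¹ ≠ x⁻¹) : False := by
  induction hn : Nat.card T using Nat.strong_induction_on generalizing T with
  | h n ih =>
  subst hn
  haveI := Fact.mk hl
  -- central involutions of `T` do not exist
  have hcen : ∀ w ∈ T, orderOf w = 2 → w ∈ Subgroup.center Q → False := by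
    intro w hw ho hc
    have hb := hrad (Subgroup.zpowers w) (Subgroup.zpowers_le.mpr hw) ?_ ?_
    · rw [Subgroup.zpowers_eq_bot] at hb
      rw [hb, orderOf_one] at ho
      norm_num at ho
    · intro t _
      rw [Subgroup.mem_normalizer_iff]
      intro z
      have h : ∀ z ∈ Subgroup.zpowers w, t * z * t⁻¹ = z := fun z hz => by
        rw [(Subgroup.mem_center_iff.mp ((Subgroup.zpowers_le.mpr hc) hz) t), mul_inv_cancel_right]
      constructor
      · intro hz; rw [h z hz]; exact hz
      · intro hz
        have : z = t * z * t⁻¹ := by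
          have e := Subgroup.mem_center_iff.mp ((Subgroup.zpowers_le.mpr hc) hz) t
          calc z = t⁻¹ * (t * z * t⁻¹ * t) := by group
            _ = t * z * t⁻¹ := by rw [← e, inv_mul_cancel_left]
        rwa [this]
    · exact (Group.isSolvable_of_comm fun a b => IsMulCommutative.is_comm.comm a b)
  -- a minimal subgroup normalised by `T`
  obtain ⟨N, ⟨hNT, hTN, hN0⟩, hmin⟩ := Set.Finite.exists_minimal
    (s := {N : Subgroup Q | N ≤ T ∧ T ≤ Subgroup.normalizer (N : Set Q) ∧ N ≠ ⊥}) (Set.toFinite _)
    ⟨T, le_rfl, Subgroup.le_normalizer, hT⟩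
  have hmin' : ∀ M : Subgroup Q, M ≤ N → T ≤ Subgroup.normalizer (M : Set Q) → M ≠ ⊥ → M = N :=
    fun M h1 h2 h3 => le_antisymm h1 (hmin ⟨h1.trans hNT, h2, h3⟩ h1)
  have hNns : ¬ Group.IsSolvable N := fun h => hN0 (hrad N hNT hTN h)
  have hNev : 2 ∣ Nat.card N := by
    by_contra h
    exact hNns (CfsgLib.OddOrder.feitThompson (Nat.odd_iff.mpr (by omega)))
  haveI : Fact (Nat.Prime 2) := ⟨Nat.prime_two⟩
  obtain ⟨⟨u, huN⟩, hu2⟩ := exists_prime_orderOf_dvd_card' 2 hNev
  rw [Subgroup.orderOf_mk] at hu2
  have huu : u * u = 1 := by rw [← sq, ← hu2, pow_orderOf_eq_one]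
  have hpowT : ∀ i : ℕ, ∀ t ∈ T, y ^ i * t * (y ^ i)⁻¹ ∈ T := by
    intro i
    induction i with
    | zero => intro t ht; simpa using ht
    | succ i ih' =>
      intro t ht
      have := hyT _ (ih' t ht)
      simpa [pow_succ', mul_assoc] using this
  by_cases hyN : y ∈ Subgroup.normalizer (N : Set Q)
  · have hyN' : ∀ x ∈ N, y * x * y⁻¹ ∈ N := fun x hx => (Subgroup.mem_normalizer_iff.mp hyN x).mp hx
    by_cases hNeq : N = T
    · -- `T` is simple
      subst hNeq
      haveI : Nontrivial N := (Subgroup.nontrivial_iff_ne_bot N).mpr hT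
      haveI : IsSimpleGroup N := ⟨fun M hM => by
        by_cases hb : M = ⊥
        · exact Or.inl hb
        right
        have hle : N ≤ Subgroup.normalizer ((M.map N.subtype : Subgroup Q) : Set Q) := by
          intro t ht
          rw [Subgroup.mem_normalizer_iff]
          intro z
          constructor
          · rintro ⟨a, ha, rfl⟩
            exact ⟨⟨t, ht⟩ * a * ⟨t, ht⟩⁻¹, hM.conj_mem a ha _, rfl⟩
          · rintro ⟨a, ha, e⟩
            refine ⟨(⟨t, ht⟩ : N)⁻¹ * a * ⟨t, ht⟩, by simpa using hM.conj_mem a ha ⟨t, ht⟩⁻¹, ?_⟩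
            have e' : (a : Q) = t * z * t⁻¹ := e
            show t⁻¹ * (a : Q) * t = z
            rw [e']; group
        have h := hmin' (M.map N.subtype) (Subgroup.map_subtype_le M) hle
          (fun e => hb (by rwa [Subgroup.map_eq_bot_iff_of_injective _ N.subtype_injective] at e))
        exact Subgroup.map_injective N.subtype_injective (h.trans (by rw [← MonoidHom.range_eq_map, N.range_subtype]))⟩
      have hna : ¬ IsMulCommutative N := fun h => by
        haveI := h
        exact hNns (Group.isSolvable_of_comm fun a b => IsMulCommutative.is_comm.comm a b)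
      obtain ⟨hclass, hre⟩ := three_prime_facts hna h3
      let I : Type u := {x : N // orderOf x = 2}
      let σ : Equiv.Perm I :=
        { toFun := fun x => ⟨⟨y * (x.1 : Q) * y⁻¹, hyN' _ x.1.2⟩, by
            rw [← Subgroup.orderOf_coe]
            show orderOf (y * (x.1 : Q) * y⁻¹) = 2
            rw [← MulAut.conj_apply, MulEquiv.orderOf_eq, Subgroup.orderOf_coe, x.2]⟩
          invFun := fun x => ⟨⟨y⁻¹ * (x.1 : Q) * y, by
              have := (Subgroup.mem_normalizer_iff.mp hyN (y⁻¹ * (x.1 : Q) * y)).mpr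
              exact this (by simp [mul_assoc])⟩, by
            rw [← Subgroup.orderOf_coe]
            show orderOf (y⁻¹ * (x.1 : Q) * y) = 2
            rw [show y⁻¹ * (x.1 : Q) * y = MulAut.conj y⁻¹ (x.1 : Q) by simp, MulEquiv.orderOf_eq,
              Subgroup.orderOf_coe, x.2]⟩
          left_inv := fun x => by apply Subtype.ext; apply Subtype.ext; simp [mul_assoc]
          right_inv := fun x => by apply Subtype.ext; apply Subtype.ext; simp [mul_assoc] }
      have hσ : σ ^ l ^ 1 = 1 := by
        have key : ∀ (j : ℕ) (x : I), (((σ ^ j) x).1 : Q) = y ^ j * (x.1 : Q) * (y ^ j)⁻¹ := by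
          intro j
          induction j with
          | zero => intro x; simp
          | succ j ihj =>
            intro x
            rw [pow_succ', Equiv.Perm.mul_apply]
            show y * (((σ ^ j) x).1 : Q) * y⁻¹ = _
            rw [ihj]; group
        rw [pow_one]
        refine Equiv.ext fun x => Subtype.ext (Subtype.ext ?_)
        rw [key, hy]
        simp
      haveI : Fintype I := Fintype.ofFinite I
      have hdI : l ∣ Nat.card I := by
        by_contra hnd
        rw [Nat.card_eq_fintype_card] at hnd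
        obtain ⟨x, hx⟩ := Equiv.Perm.exists_fixed_point_of_prime hnd hσ
        have hx' : y * (x.1 : Q) * y⁻¹ = x.1 := congrArg (fun z : I => ((z.1 : N) : Q)) hx
        have hox : orderOf (x.1 : Q) = 2 := by rw [Subgroup.orderOf_coe, x.2]
        exact hcen _ x.1.2 hox (hfix _ x.1.2 hox (mul_inv_eq_iff_eq_mul.mp hx'))
      have hdN : l ∣ Nat.card N := by
        refine hdI.trans ?_
        let x₀ : N := ⟨u, huN⟩
        have hx₀ : orderOf x₀ = 2 := by rw [Subgroup.orderOf_mk, hu2]
        have e : I ≃ ↥(MulAction.orbit (ConjAct N) x₀) := Equiv.subtypeEquivRight fun x => by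
          rw [ConjAct.mem_orbit_conjAct]
          constructor
          · intro hx; exact hclass x x₀ hx hx₀
          · intro hx
            obtain ⟨c, hc⟩ := isConj_iff.mp hx
            rw [← hx₀, ← hc, show c * x * c⁻¹ = MulAut.conj c x from rfl, MulEquiv.orderOf_eq]
        rw [Nat.card_congr (e.trans (MulAction.orbitEquivQuotientStabilizer (ConjAct N) x₀))]
        exact (Subgroup.card_quotient_dvd_card _).trans (dvd_of_eq (Nat.card_congr ConjAct.ofConjAct.toEquiv))
      obtain ⟨x, g, hx, hg⟩ := hre l hl hl2 hdN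
      refine hreal x x.2 g g.2 (by rw [Subgroup.orderOf_coe, hx]) ?_
      exact congrArg Subtype.val hg
    · -- recursion
      have hlt : Nat.card N < Nat.card T :=
        lt_of_le_of_ne (Subgroup.card_le_of_le hNT) fun e => hNeq (Subgroup.eq_of_le_of_card_ge hNT e.ge)
      refine ih _ hlt N hyN' hN0 ?_ (fun h => h3 (h.trans (Subgroup.card_dvd_of_le hNT)))
        (fun w hw => hfix w (hNT hw)) (fun x hx g hg => hreal x (hNT hx) g (hNT hg)) rfl
      intro M hMN hNM hMs
      set R := CfsgLib.solvableRadical ↥N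
      have hR : R.map N.subtype = ⊥ := by
        refine hrad _ ((Subgroup.map_subtype_le R).trans hNT) ?_ ?_
        · intro t ht
          rw [Subgroup.mem_normalizer_iff]
          intro z
          have hch := Subgroup.characteristic_iff_map_eq.mp (inferInstance : R.Characteristic)
          have step : ∀ t ∈ T, ∀ z ∈ R.map N.subtype, t * z * t⁻¹ ∈ R.map N.subtype := by
            intro t ht z hz
            obtain ⟨a, ha, rfl⟩ := hz
            let φ : N ≃* N :=
              { toFun := fun b => ⟨t * b * t⁻¹, (Subgroup.mem_normalizer_iff.mp (hTN ht) b).mp b.2⟩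
                invFun := fun b => ⟨t⁻¹ * b * t, by
                  have := (Subgroup.mem_normalizer_iff.mp (hTN (inv_mem ht)) b).mp b.2
                  simpa using this⟩
                left_inv := fun b => by apply Subtype.ext; simp [mul_assoc]
                right_inv := fun b => by apply Subtype.ext; simp [mul_assoc]
                map_mul' := fun b c => by apply Subtype.ext; simp [mul_assoc] }
            exact ⟨φ a, hch φ ▸ Subgroup.mem_map_of_mem φ.toMonoidHom ha, rfl⟩
          constructor
          · exact step t ht z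
          · intro hz
            have := step t⁻¹ (inv_mem ht) _ hz
            simpa [mul_assoc] using this
        · haveI := CfsgLib.isSolvable_solvableRadical (G := ↥N)
          exact Group.isSolvable_of_surjective (f := N.subtype.subgroupMap R) (N.subtype.subgroupMap_surjective R)
      haveI : (M.subgroupOf N).Normal := Subgroup.normal_subgroupOf_iff_le_normalizer hMN |>.mpr hNM
      haveI := hMs
      have hle : M.subgroupOf N ≤ R := CfsgLib.le_solvableRadical
        (Group.isSolvable_of_surjective (f := (Subgroup.subgroupOfEquivOfLe hMN).symm.toMonoidHom)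
          (MulEquiv.surjective _))
      rw [Subgroup.map_eq_bot_iff_of_injective _ N.subtype_injective] at hR
      rw [hR, le_bot_iff, Subgroup.subgroupOf_eq_bot] at hle
      exact hle.eq_bot_of_le hMN
  · -- a conjugate of `N` differs from `N`
    have hA : ∀ d : ℕ, 0 < d → d < l → ∀ a ∈ N, ∀ b ∈ N,
        a * (y ^ d * b * (y ^ d)⁻¹) = y ^ d * b * (y ^ d)⁻¹ * a := by
      intro d hd hdl
      set M := N.map (MulAut.conj (y ^ d)).toMonoidHom with hM
      have hMT : ∀ t ∈ T, ∀ z ∈ M, t * z * t⁻¹ ∈ M := by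
        intro t ht z hz
        rw [hM, map_conj_mem] at hz ⊢
        have ht' : (y ^ d)⁻¹ * t * y ^ d ∈ T := by
          have hinv : (y ^ d)⁻¹ = y ^ (l - d) := inv_eq_of_mul_eq_one_right (by
            rw [← pow_add, show d + (l - d) = l by omega, hy])
          have := hpowT (l - d) t ht
          rwa [← hinv, inv_inv] at this
        have h := (Subgroup.mem_normalizer_iff.mp (hTN ht') _).mp hz
        convert h using 1; group
      have hdisj : ∀ z ∈ N, z ∈ M → z = 1 := by
        intro z hzN hzM
        by_contra hz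
        have heq := hmin' (N ⊓ M) inf_le_left ?_ (fun e => hz ((Subgroup.mem_bot).mp (e ▸ ⟨hzN, hzM⟩)))
        · have hNM : N ≤ M := heq ▸ inf_le_right
          have heq2 : N = M := Subgroup.eq_of_le_of_card_ge hNM
            (le_of_eq (Subgroup.card_map_of_injective (MulAut.conj (y ^ d)).injective))
          have hyd : y ^ d ∈ Subgroup.normalizer (N : Set Q) := by
            rw [Subgroup.mem_normalizer_iff]
            intro x
            conv_rhs => rw [heq2, hM, map_conj_mem]
            rw [show (y ^ d)⁻¹ * (y ^ d * x * (y ^ d)⁻¹) * y ^ d = x by group]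
          apply hyN
          obtain ⟨k, hk⟩ := exists_pow_eq_self_of_coprime (x := y) (n := d)
            ((Nat.Coprime.coprime_dvd_right (orderOf_dvd_of_pow_eq_one hy)
              (((Nat.Prime.coprime_iff_not_dvd hl).mpr (Nat.not_dvd_of_pos_of_lt hd hdl)).symm)))
          rw [← hk]
          exact pow_mem hyd k
        · intro t ht
          rw [Subgroup.mem_normalizer_iff]
          intro x
          constructor
          · intro hx
            exact ⟨(Subgroup.mem_normalizer_iff.mp (hTN ht) x).mp hx.1, hMT t ht x hx.2⟩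
          · intro hx
            refine ⟨(Subgroup.mem_normalizer_iff.mp (hTN ht) x).mpr hx.1, ?_⟩
            have := hMT t⁻¹ (inv_mem ht) _ hx.2
            simpa [mul_assoc] using this
      intro a ha b hb
      set c := y ^ d * b * (y ^ d)⁻¹ with hc
      have hcM : c ∈ M := ⟨b, hb, rfl⟩
      have hcT : c ∈ T := hpowT d b (hNT hb)
      have h1 : a * c * a⁻¹ * c⁻¹ ∈ N := by
        have := mul_mem ha ((Subgroup.mem_normalizer_iff.mp (hTN hcT) a⁻¹).mp (inv_mem ha))
        convert this using 1; group
      have h2 : a * c * a⁻¹ * c⁻¹ ∈ M := mul_mem (hMT a (hNT ha) c hcM) (inv_mem hcM)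
      have h := hdisj _ h1 h2
      rw [mul_inv_eq_one, mul_inv_eq_iff_eq_mul] at h
      exact h
    set U : ℕ → Q := fun i => y ^ i * u * (y ^ i)⁻¹ with hU
    have hUU : ∀ i j, i < j → j < l → U i * U j = U j * U i := by
      intro i j hij hjl
      have h := hA (j - i) (by omega) (by omega) u huN u huN
      have e : y ^ j = y ^ i * y ^ (j - i) := by rw [← pow_add, Nat.add_sub_cancel' hij.le]
      calc U i * U j = y ^ i * (u * (y ^ (j - i) * u * (y ^ (j - i))⁻¹)) * (y ^ i)⁻¹ := by
            simp only [hU, e]; group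
        _ = y ^ i * (y ^ (j - i) * u * (y ^ (j - i))⁻¹ * u) * (y ^ i)⁻¹ := by rw [h]
        _ = U j * U i := by simp only [hU, e]; group
    set P : ℕ → Q := fun j => (u * y) ^ j * (y ^ j)⁻¹ with hP
    have hPs : ∀ j, P (j + 1) = P j * U j := by
      intro j
      simp only [hP, hU]
      rw [pow_succ (u * y), pow_succ y]
      group
    have key : ∀ j, j ≤ l → P j ∈ T ∧ P j * P j = 1 ∧ (∀ i, j ≤ i → i < l → P j * U i = U i * P j) ∧
        (1 ≤ j → ∀ a ∈ N, u⁻¹ * P j * a = a * (u⁻¹ * P j)) := by
      intro j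
      induction j with
      | zero =>
        intro _
        refine ⟨by simp [hP], by simp [hP], fun i _ _ => by simp [hP], fun h => absurd h (by omega)⟩
      | succ j ihj =>
        intro hj
        obtain ⟨h1, h2, h3', h4⟩ := ihj (by omega)
        have hc := h3' j le_rfl (by omega)
        refine ⟨?_, ?_, ?_, ?_⟩
        · rw [hPs]; exact mul_mem h1 (hpowT j u (hNT huN))
        · rw [hPs]
          calc P j * U j * (P j * U j) = (P j * U j) * (U j * P j) := by rw [hc]
            _ = P j * (U j * U j) * P j := by group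
            _ = 1 := by
              rw [show U j * U j = y ^ j * (u * u) * (y ^ j)⁻¹ by simp only [hU]; group, huu]
              rw [mul_one, mul_inv_cancel, mul_one, h2]
        · intro i hi hil
          rw [hPs, mul_assoc, hUU j i (by omega) hil, ← mul_assoc, h3' i (by omega) hil, mul_assoc]
        · intro _ a ha
          rw [hPs]
          rcases Nat.eq_zero_or_pos j with rfl | hjp
          · simp [hP, hU]
          · have hcu : a * U j = U j * a := hA j hjp (by omega) a ha u huN
            calc u⁻¹ * (P j * U j) * a = (u⁻¹ * P j) * (U j * a) := by group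
              _ = (u⁻¹ * P j * a) * U j := by rw [← hcu]; group
              _ = a * (u⁻¹ * (P j * U j)) := by rw [h4 hjp a ha]; group
    obtain ⟨hwT, hw2, -, hwN⟩ := key l le_rfl
    have hwN' := hwN hl.one_le
    have hw1 : P l ≠ 1 := by
      intro e
      have hu : ∀ a ∈ N, u * a = a * u := by
        intro a ha
        have h := hwN' a ha
        rw [e, mul_one] at h
        calc u * a = u * (a * u⁻¹) * u := by group
          _ = u * (u⁻¹ * a) * u := by rw [h]
          _ = a * u := by group
      set Z := (Subgroup.center N).map N.subtype with hZ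
      have hZb := hrad Z ((Subgroup.map_subtype_le _).trans hNT) ?_ ?_
      · have : u ∈ Z := ⟨⟨u, huN⟩, Subgroup.mem_center_iff.mpr fun a => Subtype.ext (hu a a.2).symm, rfl⟩
        rw [hZb, Subgroup.mem_bot] at this
        rw [this, orderOf_one] at hu2
        norm_num at hu2
      · have step : ∀ t ∈ T, ∀ z ∈ Z, t * z * t⁻¹ ∈ Z := by
          rintro t ht _ ⟨z, hz, rfl⟩
          refine ⟨⟨t * z * t⁻¹, (Subgroup.mem_normalizer_iff.mp (hTN ht) z).mp z.2⟩,
            Subgroup.mem_center_iff.mpr fun a => Subtype.ext ?_, rfl⟩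
          have ha : t⁻¹ * (a : Q) * t ∈ N := by
            simpa using (Subgroup.mem_normalizer_iff.mp (hTN (inv_mem ht)) a).mp a.2
          have h := congrArg Subtype.val (Subgroup.mem_center_iff.mp hz ⟨_, ha⟩)
          simp only [Subgroup.coe_mul] at h ⊢
          calc (a : Q) * (t * z * t⁻¹) = t * (t⁻¹ * a * t * z) * t⁻¹ := by group
            _ = t * ((z : Q) * (t⁻¹ * a * t)) * t⁻¹ := by rw [h]
            _ = t * z * t⁻¹ * a := by group
        intro t ht
        rw [Subgroup.mem_normalizer_iff]
        intro z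
        refine ⟨step t ht z, fun hz => ?_⟩
        have := step t⁻¹ (inv_mem ht) _ hz
        simpa [mul_assoc] using this
      · haveI : Group.IsSolvable (Subgroup.center N) :=
          Group.isSolvable_of_comm fun a b => Subtype.ext (Subgroup.mem_center_iff.mp b.2 a)
        exact Group.isSolvable_of_surjective (f := N.subtype.subgroupMap (Subgroup.center N))
          (N.subtype.subgroupMap_surjective _)
    have hPl : P l = (u * y) ^ l := by simp only [hP]; rw [hy, inv_one, mul_one]
    have hwu : P l * u = u * P l := by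
      calc P l * u = u * (u⁻¹ * P l * u) := by group
        _ = u * (u * (u⁻¹ * P l)) := by rw [hwN' u huN]
        _ = u * P l := by group
    have hcomm : y * P l = P l * y := by
      have h := (Commute.self_pow (u * y) l).eq
      rw [← hPl] at h
      calc y * P l = u⁻¹ * (u * y * P l) := by group
        _ = u⁻¹ * (P l * u) * y := by rw [h]; group
        _ = P l * y := by rw [hwu]; group
    have hw : orderOf (P l) = 2 := orderOf_eq_prime (by rw [sq]; exact hw2) hw1
    exact hcen _ hwT hw (hfix _ hwT hw hcomm)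

variable {p : ℕ} [hp : Fact p.Prime] {V : Type v} [AddCommGroup V] [Finite V] [Module (ZMod p) V]
  {K : Type u} [Group K] [Finite K] (ρ : Representation (ZMod p) K V)

/-- In odd dimension a 2-element of the commutant of an irreducible element is a scalar. -/
theorem scalar_of_two_power [Nontrivial V] (hm : Odd (finrank (ZMod p) V)) {x : K} (h : Irred ρ x) :
    ∀ (a : ℕ) (c : commutant ρ x), c ^ 2 ^ a = 1 → ∃ r : ZMod p, c = algebraMap (ZMod p) (commutant ρ x) r := by
  intro a
  induction a with
  | zero => intro c hc; rw [pow_zero, pow_one] at hc; exact ⟨1, by rw [hc, map_one]⟩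
  | succ a ih =>
    intro c hc
    obtain ⟨s, hs⟩ := ih (c ^ 2) (by rw [← pow_mul, ← pow_succ']; exact hc)
    obtain ⟨j, hj⟩ := hm
    have hdet : (LinearMap.det (c : Module.End (ZMod p) V)) ^ 2 = s ^ (2 * j + 1) := by
      rw [← map_pow, ← Subalgebra.coe_pow, hs, Subalgebra.coe_algebraMap, Algebra.algebraMap_eq_smul_one,
        LinearMap.det_smul, map_one, mul_one, hj]
    have hs0 : s ≠ 0 := by
      rintro rfl
      rw [map_zero] at hs
      have h1 : (c ^ 2) ^ 2 ^ a = 1 := by rw [← pow_mul, ← pow_succ']; exact hc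
      rw [hs, zero_pow (by positivity)] at h1
      haveI := isDomain_commutant ρ h
      exact zero_ne_one h1
    set r := LinearMap.det (c : Module.End (ZMod p) V) / s ^ j with hr
    have hr2 : r ^ 2 = s := by
      rw [hr, div_pow, hdet, ← pow_mul, div_eq_iff (pow_ne_zero _ hs0), pow_succ', mul_comm 2 j]
    haveI := isDomain_commutant ρ h
    have hfac : (c - algebraMap (ZMod p) _ r) * (c + algebraMap (ZMod p) _ r) = 0 := by
      have hcr := (Algebra.commutes r c).symm
      calc (c - algebraMap (ZMod p) _ r) * (c + algebraMap (ZMod p) _ r)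
          = c ^ 2 - algebraMap (ZMod p) _ r ^ 2 := by
            rw [sub_mul, mul_add, mul_add, sq, sq, hcr]; abel
        _ = 0 := by rw [← map_pow, hr2, hs, sub_self]
    rcases mul_eq_zero.mp hfac with h1 | h1
    · exact ⟨r, sub_eq_zero.mp h1⟩
    · exact ⟨-r, by rw [map_neg]; exact eq_neg_of_add_eq_zero_left h1⟩

/-- A 2-element commuting with an element of primitive prime order is central. -/
theorem central_of_commute [Nontrivial V] (hρ : Function.Injective ρ) (hm : Odd (finrank (ZMod p) V)) {x : K}
    (h : Irred ρ x) {u : K} {a : ℕ} (hu : u ^ 2 ^ a = 1) (hux : u * x = x * u) : u ∈ Subgroup.center K := by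
  obtain ⟨r, hr⟩ := scalar_of_two_power ρ hm h a ⟨ρ u, mem_commutant_of_commute ρ hux⟩
    (Subtype.ext (by rw [Subalgebra.coe_pow, ← map_pow, hu, map_one]; rfl))
  refine Subgroup.mem_center_iff.mpr fun g => hρ ?_
  have e : ρ u = algebraMap (ZMod p) (Module.End (ZMod p) V) r := congrArg Subtype.val hr
  rw [map_mul, map_mul, e]
  exact (Algebra.commutes r (ρ g)).symm

theorem card_dvd_of_transitive (htr : ∀ v w : V, v ≠ 0 → w ≠ 0 → ∃ g : K, ρ g v = w) [Nontrivial V] :
    p ^ finrank (ZMod p) V - 1 ∣ Nat.card K := by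
  classical
  letI : MulAction K {v : V // v ≠ 0} :=
    { smul := fun g v => ⟨ρ g v.1, fun e => v.2 (by rw [← rep_inv_app ρ g v.1, e, map_zero])⟩
      one_smul := fun v => Subtype.ext (rep_one_app ρ v.1)
      mul_smul := fun g h v => Subtype.ext (rep_mul_app ρ g h v.1) }
  haveI : MulAction.IsPretransitive K {v : V // v ≠ 0} := ⟨fun v w => by
    obtain ⟨g, hg⟩ := htr v.1 w.1 v.2 w.2
    exact ⟨g, Subtype.ext hg⟩⟩
  obtain ⟨v, hv⟩ := exists_ne (0 : V)
  have h := MulAction.index_stabilizer_of_transitive K (⟨v, hv⟩ : {v : V // v ≠ 0})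
  haveI := Fintype.ofFinite V
  rw [Nat.card_eq_fintype_card (α := {v : V // v ≠ 0}), Fintype.card_subtype_compl, Fintype.card_subtype_eq,
    ← Nat.card_eq_fintype_card (α := V), Module.natCard_eq_pow_finrank (K := ZMod p), Nat.card_zmod] at h
  rw [← h]
  exact Subgroup.index_dvd_card _

/-- A normal `3'`-subgroup of a transitive linear group of odd dimension is solvable. -/
theorem solvable_of_three_prime [Nontrivial V] (hρ : Function.Injective ρ) (hp2 : p ≠ 2)
    (hm : Odd (finrank (ZMod p) V)) (htr : ∀ v w : V, v ≠ 0 → w ≠ 0 → ∃ g : K, ρ g v = w)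
    (D : Subgroup K) [hDn : D.Normal] (h3 : ¬ 3 ∣ Nat.card D) : Group.IsSolvable D := by
  by_cases hm1 : finrank (ZMod p) V = 1
  · obtain ⟨v₀, hv₀⟩ := exists_ne (0 : V)
    have hsc : ∀ g : K, ∃ c : ZMod p, ∀ v : V, ρ g v = c • v := fun g => by
      obtain ⟨c, hc⟩ := exists_smul_eq_of_finrank_eq_one hm1 hv₀ (ρ g v₀)
      refine ⟨c, fun v => ?_⟩
      obtain ⟨d, rfl⟩ := exists_smul_eq_of_finrank_eq_one hm1 hv₀ v
      rw [map_smul, ← hc, smul_comm]
    haveI : IsMulCommutative D := ⟨⟨fun a b => Subtype.ext (hρ (LinearMap.ext fun v => ?_))⟩⟩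
    · exact (Group.isSolvable_of_comm fun a b => IsMulCommutative.is_comm.comm a b)
    · obtain ⟨c, hc⟩ := hsc (a : K)
      obtain ⟨d, hd⟩ := hsc (b : K)
      rw [Subgroup.coe_mul, Subgroup.coe_mul, rep_mul_app, rep_mul_app, hd, hc, hc, hd, smul_comm]
  by_contra hns
  have hm3 : 3 ≤ finrank (ZMod p) V := by
    obtain ⟨j, hj⟩ := hm
    omega
  obtain ⟨l, hppd, -⟩ := exists_ppd_three hp.out hp2 hm3
  have hl := hppd.prime
  haveI := Fact.mk hl
  have hl2 : l ≠ 2 := odd_of_ppd hppd (hp.out.odd_of_ne_two hp2) (by omega)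
  obtain ⟨y, hy⟩ := exists_prime_orderOf_dvd_card' (G := K) l (hppd.dvd.trans (card_dvd_of_transitive ρ htr))
  have hirr := irred_of_ppd ρ hρ hppd hy
  set R := (CfsgLib.solvableRadical ↥D).map D.subtype with hR
  haveI : R.Normal := inferInstanceAs ((CfsgLib.solvableRadical ↥D).map D.subtype).Normal
  have hRD : R ≤ D := Subgroup.map_subtype_le _
  haveI hRs : Group.IsSolvable R := by
    haveI := CfsgLib.isSolvable_solvableRadical (G := ↥D)
    exact Group.isSolvable_of_surjective (f := D.subtype.subgroupMap _) (D.subtype.subgroupMap_surjective _)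
  -- `l` does not divide the order of the radical
  have hlR : ¬ l ∣ Nat.card R := by
    intro hd
    let Y : Sylow l R := default
    set Y' := (Y : Subgroup R).map R.subtype with hY'
    obtain ⟨y₁, hy₁⟩ := exists_prime_orderOf_dvd_card' (G := Y) l
      ((Sylow.dvd_card_of_dvd_card Y hd))
    set x₁ : K := ((y₁ : R) : K)
    have hx₁ : orderOf x₁ = l := by rw [Subgroup.orderOf_coe, Subgroup.orderOf_coe, hy₁]
    haveI hYc : IsMulCommutative Y' := by
      have hsub : (Subgroup.center Y : Subgroup Y) ≠ ⊥ := by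
        haveI : Nontrivial Y := ⟨⟨y₁, 1, fun e => by rw [e, orderOf_one] at hy₁; exact hl.ne_one hy₁.symm⟩⟩
        exact (Subgroup.nontrivial_iff_ne_bot _).mp Y.isPGroup'.center_nontrivial
      obtain ⟨n, hn⟩ := IsPGroup.iff_card.mp (Y.isPGroup'.to_subgroup (Subgroup.center Y))
      obtain ⟨z, hz⟩ := exists_prime_orderOf_dvd_card' (G := Subgroup.center Y) l (by
        rw [hn]
        refine dvd_pow_self l fun e => hsub ?_
        rw [e, pow_zero] at hn
        exact Subgroup.card_eq_one.mp hn)
      set z' : K := (((z : Y) : R) : K)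
      have hz' : orderOf z' = l := by rw [Subgroup.orderOf_coe, Subgroup.orderOf_coe, Subgroup.orderOf_coe, hz]
      haveI := isCyclic_centralizer ρ hρ (irred_of_ppd ρ hρ hppd hz')
      letI := IsCyclic.commGroup (α := Subgroup.centralizer ({z'} : Set K))
      have hle : Y' ≤ Subgroup.centralizer ({z'} : Set K) := by
        rintro _ ⟨w, hw, rfl⟩
        rw [Subgroup.mem_centralizer_singleton_iff]
        have := congrArg (fun q : Y => ((q : R) : K)) (Subgroup.mem_center_iff.mp z.2 ⟨w, hw⟩)
        exact this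
      refine ⟨⟨fun a b => Subtype.ext ?_⟩⟩
      have h := mul_comm (⟨a, hle a.2⟩ : Subgroup.centralizer ({z'} : Set K)) ⟨b, hle b.2⟩
      exact congrArg (Subtype.val : ↥(Subgroup.centralizer ({z'} : Set K)) → K) h
    have hYD : Y' ≤ D := (Subgroup.map_subtype_le _).trans hRD
    -- Frattini
    haveI : (R.subgroupOf D).Normal := Subgroup.normal_subgroupOf
    set N := Subgroup.normalizer (Y' : Set K) ⊓ D with hN
    haveI : Group.IsSolvable N := by
      haveI := isCyclic_centralizer ρ hρ (irred_of_ppd ρ hρ hppd hx₁)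
      letI := IsCyclic.commGroup (α := Subgroup.centralizer ({x₁} : Set K))
      have hle : Y' ≤ Subgroup.centralizer ({x₁} : Set K) := fun w hw => by
        rw [Subgroup.mem_centralizer_singleton_iff]
        exact congrArg Subtype.val (hYc.is_comm.comm ⟨w, hw⟩ ⟨x₁, ⟨y₁, y₁.2, rfl⟩⟩)
      haveI : IsCyclic Y' := by
        have := Subgroup.isCyclic (Y'.subgroupOf (Subgroup.centralizer ({x₁} : Set K)))
        exact (Subgroup.subgroupOfEquivOfLe hle).isCyclic.mp this
      let f : N →* MulAut Y' := Y'.normalizerMonoidHom.comp (Subgroup.inclusion (inf_le_left : N ≤ _))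
      haveI : Group.IsSolvable f.ker := by
        have hker : ∀ g : f.ker, ((g : N) : K) ∈ Subgroup.centralizer ({x₁} : Set K) := by
          intro g
          have h : Subgroup.inclusion (inf_le_left : N ≤ _) (g : N) ∈ Y'.normalizerMonoidHom.ker := g.2
          rw [Subgroup.normalizerMonoidHom_ker, Subgroup.mem_subgroupOf] at h
          rw [Subgroup.mem_centralizer_singleton_iff]
          exact ((Subgroup.mem_centralizer_iff.mp h) x₁ ⟨y₁, y₁.2, rfl⟩).symm
        refine Group.isSolvable_of_comm fun a b => Subtype.ext (Subtype.ext ?_)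
        have h := mul_comm (⟨_, hker a⟩ : Subgroup.centralizer ({x₁} : Set K)) ⟨_, hker b⟩
        exact congrArg (Subtype.val : ↥(Subgroup.centralizer ({x₁} : Set K)) → K) h
      haveI : Group.IsSolvable (MulAut Y') := Group.isSolvable_of_comm fun a b => by
        apply (IsCyclic.mulAutMulEquiv Y').injective
        rw [map_mul, map_mul, mul_comm]
      exact Group.isSolvable_of_ker_le_range f.ker.subtype f (le_of_eq f.ker.range_subtype.symm)
    apply hns
    let π : N →* D ⧸ R.subgroupOf D :=
      (QuotientGroup.mk' _).comp (Subgroup.inclusion (inf_le_right : N ≤ D))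
    have hπ : Function.Surjective π := by
      intro q
      obtain ⟨d, rfl⟩ := QuotientGroup.mk_surjective q
      obtain ⟨n, hn, r, hr, e⟩ := Subgroup.mem_sup_of_normal_right.mp
        ((Sylow.normalizer_sup_eq_top Y).symm ▸ Subgroup.mem_top (d : K))
      have hnD : n ∈ D := by
        rw [show n = (d : K) * r⁻¹ by rw [← e, mul_inv_cancel_right]]
        exact D.mul_mem d.2 (inv_mem (hRD hr))
      refine ⟨⟨n, hn, hnD⟩, ?_⟩
      show QuotientGroup.mk (⟨n, hnD⟩ : D) = QuotientGroup.mk d
      rw [QuotientGroup.eq, Subgroup.mem_subgroupOf]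
      show n⁻¹ * (d : K) ∈ R
      rwa [← e, inv_mul_cancel_left]
    haveI : Group.IsSolvable (D ⧸ R.subgroupOf D) := Group.isSolvable_of_surjective hπ
    haveI : Group.IsSolvable (R.subgroupOf D) :=
      Group.isSolvable_of_surjective (f := (Subgroup.subgroupOfEquivOfLe hRD).symm.toMonoidHom)
        (MulEquiv.surjective _)
    exact Group.isSolvable_of_ker_le_range (R.subgroupOf D).subtype (QuotientGroup.mk' (R.subgroupOf D))
      (le_of_eq (by rw [QuotientGroup.ker_mk', Subgroup.range_subtype]))
  -- the quotient by the radical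
  let mk := QuotientGroup.mk' R
  have hsurj : Function.Surjective mk := QuotientGroup.mk'_surjective R
  refine section_false (mk y) hl hl2 (by rw [← map_pow, ← hy, pow_orderOf_eq_one, map_one]) (D.map mk)
    ?_ ?_ ?_ ?_ ?_ ?_
  · rintro _ ⟨d, hd, rfl⟩
    exact ⟨y * d * y⁻¹, hDn.conj_mem d hd y, by simp⟩
  · intro e
    apply hns
    rw [Subgroup.map_eq_bot_iff, QuotientGroup.ker_mk'] at e
    have : D = R := le_antisymm e hRD
    rw [this]
    exact hRs
  · intro N hN hnorm hs
    set N' := N.comap mk with hN'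
    have hN'D : N' ≤ D := fun x hx => by
      obtain ⟨d, hd, e⟩ := hN hx
      have : d⁻¹ * x ∈ R := by
        rw [← QuotientGroup.ker_mk' R, MonoidHom.mem_ker, map_mul, map_inv, e, inv_mul_cancel]
      simpa using D.mul_mem hd (hRD this)
    haveI hn' : (N'.subgroupOf D).Normal := Subgroup.normal_subgroupOf_iff_le_normalizer hN'D |>.mpr fun d hd => by
      rw [Subgroup.mem_normalizer_iff]
      intro x
      have := Subgroup.mem_normalizer_iff.mp (hnorm ⟨d, hd, rfl⟩) (mk x)
      simpa [hN'] using this
    have hs' : Group.IsSolvable N' := by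
      haveI := hs
      let g : N' →* N := (mk.comp N'.subtype).codRestrict N fun x => x.2
      refine Group.isSolvable_of_ker_le_range (Subgroup.inclusion (fun x hx => ?_ : R ≤ N')) g ?_
      · show mk x ∈ N
        rw [show mk x = 1 from (QuotientGroup.eq_one_iff x).mpr hx]
        exact N.one_mem
      · intro x hx
        exact ⟨⟨x, (QuotientGroup.eq_one_iff (x : K)).mp (congrArg Subtype.val hx)⟩, rfl⟩
    haveI := hs'
    have hle : N'.subgroupOf D ≤ CfsgLib.solvableRadical ↥D := CfsgLib.le_solvableRadical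
      (Group.isSolvable_of_surjective (f := (Subgroup.subgroupOfEquivOfLe hN'D).symm.toMonoidHom)
        (MulEquiv.surjective _))
    rw [eq_bot_iff]
    intro q hq
    obtain ⟨x, rfl⟩ := hsurj q
    exact (QuotientGroup.eq_one_iff x).mpr ⟨⟨x, hN'D hq⟩, hle (show x ∈ N' from hq), rfl⟩
  · exact fun h => h3 (h.trans (Subgroup.card_map_dvd D mk))
  · rintro w - hw hyw
    obtain ⟨x₀, rfl⟩ := hsurj w
    let C : Type u := {k : K // mk k = mk x₀}
    have hC : Nat.card C = Nat.card R := by
      refine Nat.card_congr ⟨fun k => ⟨x₀⁻¹ * k.1, ?_⟩, fun r => ⟨x₀ * r.1, ?_⟩, fun k => ?_, fun r => ?_⟩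
      · refine (QuotientGroup.eq_one_iff _).mp (show mk (x₀⁻¹ * k.1) = 1 from ?_)
        rw [map_mul, map_inv]
        exact inv_mul_eq_one.mpr k.2.symm
      · rw [map_mul, show mk (r : K) = 1 from (QuotientGroup.eq_one_iff _).mpr r.2, mul_one]
      · exact Subtype.ext (mul_inv_cancel_left _ _)
      · exact Subtype.ext (inv_mul_cancel_left _ _)
    let σ : Equiv.Perm C :=
      { toFun := fun k => ⟨y * k.1 * y⁻¹, by rw [map_mul, map_mul, map_inv, k.2, hyw, mul_inv_cancel_right]⟩
        invFun := fun k => ⟨y⁻¹ * k.1 * y, by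
          rw [map_mul, map_mul, map_inv, k.2, mul_assoc, ← hyw, inv_mul_cancel_left]⟩
        left_inv := fun k => by apply Subtype.ext; simp [mul_assoc]
        right_inv := fun k => by apply Subtype.ext; simp [mul_assoc] }
    have hσ : σ ^ l ^ 1 = 1 := by
      have key : ∀ (j : ℕ) (k : C), ((σ ^ j) k).1 = y ^ j * k.1 * (y ^ j)⁻¹ := by
        intro j
        induction j with
        | zero => intro k; simp
        | succ j ihj =>
          intro k
          rw [pow_succ', Equiv.Perm.mul_apply]
          show y * ((σ ^ j) k).1 * y⁻¹ = _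
          rw [ihj]; group
      rw [pow_one]
      refine Equiv.ext fun k => Subtype.ext ?_
      rw [key, ← hy, pow_orderOf_eq_one]
      simp
    haveI : Fintype C := Fintype.ofFinite C
    obtain ⟨⟨k, hk⟩, hkσ⟩ := Equiv.Perm.exists_fixed_point_of_prime
      (by rw [← Nat.card_eq_fintype_card, hC]; exact hlR) hσ
    have hky : y * k * y⁻¹ = k := congrArg Subtype.val hkσ
    obtain ⟨a, t, ht, ht'⟩ := Nat.exists_eq_two_pow_mul_odd (orderOf_pos k).ne'
    have hkt : (k ^ t) ^ 2 ^ a = 1 := by rw [← pow_mul, mul_comm, ← ht', pow_orderOf_eq_one]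
    have hyk : k * y = y * k := by
      conv_lhs => rw [← hky, inv_mul_cancel_right]
    have hc := central_of_commute ρ hρ hm hirr hkt ((show Commute k y from hyk).pow_left t).eq
    have hmk : mk (k ^ t) = mk x₀ := by
      rw [map_pow, hk]
      obtain ⟨s, rfl⟩ := ht
      rw [pow_succ, pow_mul, sq, show mk x₀ * mk x₀ = 1 by rw [← sq, ← hw, pow_orderOf_eq_one], one_pow, one_mul]
    rw [← hmk]
    refine Subgroup.mem_center_iff.mpr fun q => ?_
    obtain ⟨g, rfl⟩ := hsurj q
    rw [← map_mul, ← map_mul, Subgroup.mem_center_iff.mp hc g]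
  · rintro _ ⟨x₀, -, rfl⟩ _ ⟨g, -, rfl⟩ hx hg
    set r := Nat.card R
    have hcop : Nat.Coprime l r := (Nat.Prime.coprime_iff_not_dvd hl).mpr hlR
    set x := x₀ ^ r with hxdef
    have hx0R : x₀ ^ l ∈ R := (QuotientGroup.eq_one_iff _).mp (by
      show mk (x₀ ^ l) = 1
      rw [map_pow, ← hx, pow_orderOf_eq_one])
    have hxl : x ^ l = 1 := by
      rw [hxdef, ← pow_mul, mul_comm, pow_mul]
      exact congrArg Subtype.val (pow_card_eq_one' (x := (⟨_, hx0R⟩ : R)))
    have hmx : orderOf (mk x) = l := by
      rw [hxdef, map_pow, orderOf_pow' _ (Nat.card_pos).ne', hx, hcop.gcd_eq_one, Nat.div_one]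
    have hxo : orderOf x = l := orderOf_eq_prime hxl (fun e => by
      rw [e, map_one, orderOf_one] at hmx; exact hl.ne_one hmx.symm)
    have hgx : mk g * mk x * (mk g)⁻¹ = (mk x)⁻¹ := by
      rw [hxdef, map_pow, ← conj_pow, hg, inv_pow]
    set W := R ⊔ Subgroup.zpowers x with hW
    set x' := g * x * g⁻¹
    have hx'W : x' ∈ W := by
      have h1 : x' * x ∈ R := (QuotientGroup.eq_one_iff _).mp (by
        show mk (x' * x) = 1
        rw [map_mul, show mk x' = (mk x)⁻¹ by rw [← hgx]; simp [x'], inv_mul_cancel])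
      have : x' = (x' * x) * x⁻¹ := by group
      rw [this]
      exact mul_mem (Subgroup.mem_sup_left h1) (Subgroup.mem_sup_right (inv_mem (Subgroup.mem_zpowers x)))
    have hx'o : orderOf x' = l := by
      show orderOf (g * x * g⁻¹) = l
      rw [← MulAut.conj_apply, MulEquiv.orderOf_eq, hxo]
    have hxW : x ∈ W := Subgroup.mem_sup_right (Subgroup.mem_zpowers x)
    have hcW : Nat.card W = l * r := by
      have hdis : Disjoint R (Subgroup.zpowers x) := Subgroup.disjoint_of_coprime_natCard
        (by rw [Nat.card_zpowers, hxo]; exact hcop.symm)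
      have hb : Function.Bijective (fun q : Subgroup.zpowers x × R =>
          (⟨(q.1 : K) * q.2, mul_mem (Subgroup.mem_sup_right q.1.2) (Subgroup.mem_sup_left q.2.2)⟩ : W)) := by
        refine ⟨fun q q' e => Subgroup.mul_injective_of_disjoint hdis.symm (congrArg Subtype.val e), fun w => ?_⟩
        obtain ⟨z, hz, r', hr', e⟩ := Subgroup.mem_sup_of_normal_right.mp (show (w : K) ∈ Subgroup.zpowers x ⊔ R by rw [sup_comm]; exact w.2)
        exact ⟨(⟨z, hz⟩, ⟨r', hr'⟩), Subtype.ext e⟩
      rw [← Nat.card_eq_of_bijective _ hb, Nat.card_prod, Nat.card_zpowers, hxo]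
    have hsyl : ∀ z : W, orderOf (z : K) = l → ∃ P : Sylow l W, (P : Subgroup W) = Subgroup.zpowers z := by
      intro z hz
      refine ⟨Sylow.ofCard (Subgroup.zpowers z) ?_, rfl⟩
      rw [Nat.card_zpowers, ← Subgroup.orderOf_coe, hz, hcW,
        Nat.factorization_mul hl.ne_zero (Nat.card_pos).ne', Finsupp.add_apply, hl.factorization_self,
        Nat.factorization_eq_zero_of_not_dvd hlR, add_zero, pow_one]
    obtain ⟨P, hP⟩ := hsyl ⟨x, hxW⟩ hxo
    obtain ⟨P', hP'⟩ := hsyl ⟨x', hx'W⟩ hx'o
    obtain ⟨w, hw⟩ := MulAction.exists_smul_eq W P' P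
    obtain ⟨z, hz, rr, hrr, hrz⟩ :=
      Subgroup.mem_sup_of_normal_right.mp (show (w : K) ∈ Subgroup.zpowers x ⊔ R by rw [sup_comm]; exact w.2)
    have h1 : (⟨x', hx'W⟩ : W) ∈ (P' : Subgroup W) := by rw [hP']; exact Subgroup.mem_zpowers _
    have h2 : w * ⟨x', hx'W⟩ * w⁻¹ ∈ (P : Subgroup W) := by
      rw [← hw]
      exact Subgroup.mem_map.mpr ⟨_, h1, rfl⟩
    rw [hP] at h2
    have h3' : (w : K) * x' * (w : K)⁻¹ ∈ Subgroup.zpowers x := by
      obtain ⟨i, hi⟩ := Subgroup.mem_zpowers_iff.mp h2
      exact Subgroup.mem_zpowers_iff.mpr ⟨i, by simpa using congrArg Subtype.val hi⟩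
    have h4 : rr * x' * rr⁻¹ ∈ Subgroup.zpowers x := by
      have := mul_mem (mul_mem (inv_mem hz) h3') hz
      convert this using 1
      rw [← hrz]; group
    obtain ⟨i, hi⟩ := Subgroup.mem_zpowers_iff.mp h4
    have hrr1 : mk rr = 1 := (QuotientGroup.eq_one_iff _).mpr hrr
    have hmi : (mk x) ^ i = (mk x)⁻¹ := by
      rw [← map_zpow, hi, ← hgx]
      simp [x', hrr1]
    have hxi : x ^ i = x⁻¹ := by
      rw [eq_inv_iff_mul_eq_one, ← zpow_add_one, ← orderOf_dvd_iff_zpow_eq_one, hxo, ← hmx,
        orderOf_dvd_iff_zpow_eq_one, zpow_add_one, hmi, inv_mul_cancel]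
    have hreal : (rr * g) * x * (rr * g)⁻¹ = x⁻¹ := by
      rw [← hxi, hi]; simp [x', mul_assoc]
    obtain ⟨v, hv0, hv⟩ := real_sq_fix ρ hp2 hm hreal
    refine hv0 (fpf_of_ppd ρ hρ hppd ?_ hv)
    rw [← sq, orderOf_pow' _ two_ne_zero, hxo, Nat.coprime_iff_gcd_eq_one.mp
      ((Nat.coprime_primes hl Nat.prime_two).mpr hl2), Nat.div_one]

end CfsgLib.BannaiThree
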