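import Cfsg.Agent.Lib.BannaiThree.Bruhat
import Cfsg.Agent.Lib.BannaiThree.Solvable
import Cfsg.Agent.S0054
import Cfsg.Agent.S0680
import Cfsg.Agent.S0700
import Cfsg.Agent.S0252
import Cfsg.Agent.S2208
import Cfsg.Agent.Lib.Perm.NormalTrans

/-!
Normal subgroups of triply transitive groups of even degree divisible by 3, when a point stabiliser of the normal
subgroup has odd order or order prime to 3.
-/

set_option autoImplicit false
set_option linter.unusedSectionVars false
set_option linter.style.haveILetI false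

namespace CfsgLib.BannaiThree

open MulAction

universe u v

section Basic

variable {G : Type u} {Ω : Type v} [Group G] [MulAction G Ω]

theorem exists_three (h3 : IsMultiplyPretransitive G Ω 3) {a b c x y z : Ω} (hab : a ≠ b) (hbc : b ≠ c)
    (hac : a ≠ c) (hxy : x ≠ y) (hyz : y ≠ z) (hxz : x ≠ z) :
    ∃ g : G, g • a = x ∧ g • b = y ∧ g • c = z := by
  have inj : ∀ {p q r : Ω}, p ≠ q → q ≠ r → p ≠ r → Function.Injective ![p, q, r] := by
    intro p q r h1 h2 h3 i j e
    fin_cases i <;> fin_cases j <;> simp_all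
  obtain ⟨g, hg⟩ := h3.exists_smul_eq (⟨![a, b, c], inj hab hbc hac⟩ : Fin 3 ↪ Ω) ⟨![x, y, z], inj hxy hyz hxz⟩
  exact ⟨g, DFunLike.congr_fun hg 0, DFunLike.congr_fun hg 1, DFunLike.congr_fun hg 2⟩

theorem two_of_three [Fintype Ω] (h3 : IsMultiplyPretransitive G Ω 3) (hn : 3 ≤ Fintype.card Ω) :
    IsMultiplyPretransitive G Ω 2 := by
  haveI := h3
  exact isMultiplyPretransitive_of_le (n := 3) (by norm_num) (by rw [Nat.card_eq_fintype_card]; exact_mod_cast hn)

variable [Finite G] [Fintype Ω] [FaithfulSMul G Ω]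

/-- The orbit of `c` under the elements of `H` fixing `a` and `b`. -/
def colour (H : Subgroup G) (a b c : Ω) : Set Ω := {x | ∃ h ∈ H, h • a = a ∧ h • b = b ∧ h • c = x}

/-- There is no regular normal subgroup: the degree is not a prime power. -/
theorem no_regular_normal (h3 : IsMultiplyPretransitive G Ω 3) (hpos : 3 < Fintype.card Ω)
    (heven : Even (Fintype.card Ω)) (hdiv : 3 ∣ Fintype.card Ω) (N : Subgroup G) [N.Normal]
    (htr : IsPretransitive N Ω) (hreg : ∀ x : Ω, stabilizer N x = ⊥) : False := by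
  haveI : Nonempty Ω := Fintype.card_pos_iff.mp (by omega)
  obtain ⟨-, p, hp, hexp⟩ := Cfsg.Agent.S0054.result (two_of_three h3 hpos.le) N htr hreg
  obtain ⟨a⟩ := (inferInstance : Nonempty Ω)
  have hcard : Nat.card N = Fintype.card Ω := by
    rw [← Nat.card_eq_fintype_card, ← index_stabilizer_of_transitive N a, hreg a, Subgroup.index_bot]
  haveI := Fact.mk hp
  obtain ⟨e, he⟩ := IsPGroup.iff_card.mp (show IsPGroup p N from fun x => ⟨1, by
    rw [pow_one]; exact Subtype.ext (by rw [SubgroupClass.coe_pow]; exact hexp x x.2)⟩)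
  rw [hcard] at he
  have h2p := Nat.prime_two.dvd_of_dvd_pow (he ▸ heven.two_dvd)
  have h3p := Nat.prime_three.dvd_of_dvd_pow (he ▸ hdiv)
  rw [Nat.prime_dvd_prime_iff_eq Nat.prime_two hp] at h2p
  rw [Nat.prime_dvd_prime_iff_eq Nat.prime_three hp] at h3p
  omega

/-- The affine case. -/
theorem affine_case (h3 : IsMultiplyPretransitive G Ω 3) (hpos : 3 < Fintype.card Ω)
    (heven : Even (Fintype.card Ω)) (hdiv : 3 ∣ Fintype.card Ω) (H : Subgroup G) [hHn : H.Normal]
    (hH2 : IsMultiplyPretransitive H Ω 2) {a b : Ω} (hab : a ≠ b)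
    (hSt : Odd (Nat.card ↥(H ⊓ stabilizer G a)) ∨ ¬ 3 ∣ Nat.card ↥(H ⊓ stabilizer G a))
    (U : Subgroup G) (hUH : U ≤ H) (hUa : U ≤ stabilizer G a)
    (hUn : ∀ g ∈ stabilizer G a, ∀ u ∈ U, g * u * g⁻¹ ∈ U) (hUab : IsMulCommutative U)
    {p : ℕ} (hp : p.Prime) (hUp : ∀ x ∈ U, x ^ p = 1)
    (hreg : ∀ y z : Ω, y ≠ a → z ≠ a → ∃! u : U, (u : G) • y = z) {c : Ω} (hca : c ≠ a) (hcb : c ≠ b) :
    Fintype.card Ω - 2 ≤ Nat.card (colour H a b c) ∨
      (Fintype.card Ω - 2 ≤ 2 * Nat.card (colour H a b c) ∧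
        ∃ (N : Subgroup ↥H) (F : Type) (_ : Field F) (_ : Fintype F), N.Normal ∧
          Fintype.card F + 1 = Fintype.card Ω ∧
          Nonempty (↥N ≃* Matrix.ProjectiveSpecialLinearGroup (Fin 2) F)) := by
  classical
  haveI := Fact.mk hp
  have hcomm : ∀ x ∈ U, ∀ y ∈ U, x * y = y * x := fun x hx y hy =>
    congrArg Subtype.val (hUab.is_comm.comm ⟨x, hx⟩ ⟨y, hy⟩)
  have hueq : ∀ {u u' : G}, u ∈ U → u' ∈ U → u • b = u' • b → u = u' := by
    intro u u' hu hu' e
    obtain ⟨w, -, hw⟩ := hreg b (u' • b) hab.symm (fun e' => hab.symm (smul_left_cancel u'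
      (e'.trans (hUa hu').symm)))
    exact congrArg Subtype.val ((hw ⟨u, hu⟩ e).trans (hw ⟨u', hu'⟩ rfl).symm)
  have hexu : ∀ {x : Ω}, x ≠ a → ∃ u ∈ U, u • b = x := fun {x} hx => by
    obtain ⟨u, hu, -⟩ := hreg b x hab.symm hx
    exact ⟨u, u.2, hu⟩
  -- the degree
  have hUcard : Nat.card U = Fintype.card Ω - 1 := by
    rw [show Fintype.card Ω - 1 = Nat.card {x : Ω // x ≠ a} by
      rw [Nat.card_eq_fintype_card, Fintype.card_subtype_compl, Fintype.card_subtype_eq]]
    refine Nat.card_eq_of_bijective (fun u : U => (⟨(u : G) • b, fun e => hab.symm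
      (smul_left_cancel (u : G) (e.trans (hUa u.2).symm))⟩ : {x : Ω // x ≠ a}))
      ⟨fun u u' e => Subtype.ext (hueq u.2 u'.2 (congrArg Subtype.val e)), fun x => ?_⟩
    obtain ⟨u, hu, e⟩ := hexu x.2
    exact ⟨⟨u, hu⟩, Subtype.ext e⟩
  letI : CommGroup U := { (inferInstance : Group U) with mul_comm := hUab.is_comm.comm }
  have hpsmul : ∀ x : Additive U, p • x = 0 := fun x =>
    Additive.toMul.injective (by rw [toMul_nsmul, toMul_zero]; exact Subtype.ext (hUp _ x.toMul.2))
  haveI : Module (ZMod p) (Additive U) := AddCommGroup.zmodModule hpsmul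
  haveI : Nontrivial (Additive U) := by
    haveI : Nontrivial U := Finite.one_lt_card_iff_nontrivial.mp (by omega)
    infer_instance
  haveI : Module.Finite (ZMod p) (Additive U) := Module.Finite.of_finite
  set m := Module.finrank (ZMod p) (Additive U) with hm
  have hpm : Fintype.card Ω - 1 = p ^ m := by
    rw [← hUcard, show Nat.card U = Nat.card (Additive U) from rfl, Module.natCard_eq_pow_finrank (K := ZMod p) (V := Additive U), Nat.card_zmod]
  have hp2 : p ≠ 2 := by
    rintro rfl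
    have h1 : Odd (Fintype.card Ω - 1) := Nat.Even.sub_odd (by omega) heven odd_one
    rw [hpm] at h1
    rcases Nat.eq_zero_or_pos m with h0 | h0
    · rw [h0] at hpm; omega
    · exact Nat.not_even_iff_odd.mpr h1 ((Nat.even_pow.mpr ⟨even_two, h0.ne'⟩))
  have hmodd : Odd m := by
    by_contra h
    obtain ⟨j, hj⟩ := Nat.not_odd_iff_even.mp h
    have h1 : p ^ m % 3 = 2 := by omega
    rw [hj, Nat.pow_add, Nat.mul_mod] at h1
    have := Nat.mod_lt (p ^ j) (show 3 > 0 by norm_num)
    interval_cases (p ^ j % 3) <;> simp at h1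
  -- the linear group
  set K := stabilizer G a ⊓ stabilizer G b with hK
  let cj : ↥K → (Additive U →+ Additive U) := fun g =>
    { toFun := fun v => Additive.ofMul ⟨(g : G) * (v.toMul : G) * (g : G)⁻¹, hUn _ g.2.1 _ v.toMul.2⟩
      map_zero' := Additive.toMul.injective (Subtype.ext (by simp))
      map_add' := fun v w => Additive.toMul.injective (Subtype.ext (by simp [mul_assoc])) }
  let ρ : Representation (ZMod p) ↥K (Additive U) :=
    { toFun := fun g => (cj g).toZModLinearMap p
      map_one' := LinearMap.ext fun v => Additive.toMul.injective (Subtype.ext (by simp [cj]))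
      map_mul' := fun g h => LinearMap.ext fun v =>
        Additive.toMul.injective (Subtype.ext (by simp [cj, mul_assoc])) }
  have hρa : ∀ (g : ↥K) (v : Additive U),
      ((ρ g v).toMul : G) = (g : G) * (v.toMul : G) * (g : G)⁻¹ := fun g v => rfl
  have hρ : Function.Injective ρ := by
    intro g g' e
    refine Subtype.ext (eq_of_smul_eq_smul fun x : Ω => ?_)
    by_cases hx : x = a
    · rw [hx, show (g : G) • a = a from g.2.1, show (g' : G) • a = a from g'.2.1]
    obtain ⟨u, hu, rfl⟩ := hexu hx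
    have h := congrArg (fun φ : Additive U →ₗ[ZMod p] Additive U => ((φ (Additive.ofMul ⟨u, hu⟩)).toMul : G) • b) e
    simp only [hρa, toMul_ofMul] at h
    rw [mul_smul, mul_smul, inv_smul_eq_iff.mpr (show (g : G) • b = b from g.2.2).symm, mul_smul, mul_smul,
      inv_smul_eq_iff.mpr (show (g' : G) • b = b from g'.2.2).symm] at h
    exact h
  have htrU : ∀ x ∈ U, ∀ y ∈ U, x ≠ 1 → y ≠ 1 → ∃ g : G, g • a = a ∧ g • b = b ∧ g * x * g⁻¹ = y := by
    intro x hx y hy hx1 hy1
    have hne : ∀ z ∈ U, z ≠ 1 → b ≠ z • b ∧ a ≠ z • b := fun z hz hz1 =>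
      ⟨fun e => hz1 (hueq hz (one_mem _) (by rw [one_smul, ← e])),
        fun e => hab.symm (smul_left_cancel z (e.symm.trans (hUa hz).symm))⟩
    obtain ⟨g, ga, gb, gc⟩ := exists_three h3 hab (hne x hx hx1).1 (hne x hx hx1).2 hab (hne y hy hy1).1
      (hne y hy hy1).2
    refine ⟨g, ga, gb, hueq (hUn g ga x hx) hy ?_⟩
    rw [mul_smul, mul_smul, inv_smul_eq_iff.mpr gb.symm, gc]
  have htr : ∀ v w : Additive U, v ≠ 0 → w ≠ 0 → ∃ g : ↥K, ρ g v = w := by
    intro v w hv hw
    obtain ⟨g, ga, gb, hg⟩ := htrU _ v.toMul.2 _ w.toMul.2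
      (fun e => hv (Additive.toMul.injective (Subtype.ext e))) (fun e => hw (Additive.toMul.injective (Subtype.ext e)))
    exact ⟨⟨g, ga, gb⟩, Additive.toMul.injective (Subtype.ext hg)⟩
  set D := H.subgroupOf K with hD
  haveI : D.Normal := Subgroup.normal_subgroupOf
  haveI hDs : Group.IsSolvable D := by
    have hdvd : Nat.card D ∣ Nat.card ↥(H ⊓ stabilizer G a) := by
      rw [← Subgroup.card_map_of_injective K.subtype_injective (K := D), hD, Subgroup.subgroupOf_map_subtype]
      exact Subgroup.card_dvd_of_le (le_inf inf_le_left (inf_le_right.trans inf_le_left))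
    rcases hSt with h | h
    · exact CfsgLib.OddOrder.feitThompson (h.of_dvd_nat hdvd)
    · exact solvable_of_three_prime ρ hρ hp2 hmodd htr D fun hd => h (hd.trans hdvd)
  obtain ⟨hFc, hFsemi⟩ := fitting_facts ρ hρ hp2 hmodd htr D
  haveI : (Cfsg.fittingSubgroup ↥D).Characteristic := fitting_char
  set F₁ := (Cfsg.fittingSubgroup ↥D).map D.subtype with hF₁
  haveI : F₁.Normal := inferInstanceAs ((Cfsg.fittingSubgroup ↥D).map D.subtype).Normal
  set F := F₁.map K.subtype with hF
  have hmemD : ∀ {d : G}, d ∈ H → d • a = a → d • b = b → ∃ d' : ↥D, ((d' : ↥K) : G) = d :=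
    fun {d} hd ha hb => ⟨⟨⟨d, ha, hb⟩, hd⟩, rfl⟩
  -- an involution interchanging `a` and `b`
  haveI := hH2
  haveI : IsPretransitive H Ω := isPretransitive_of_is_two_pretransitive
  have hHev : 2 ∣ Nat.card H := by
    refine heven.two_dvd.trans ?_
    rw [← Nat.card_eq_fintype_card, ← index_stabilizer_of_transitive H a]
    exact Subgroup.index_dvd_card _
  haveI : Fact (Nat.Prime 2) := ⟨Nat.prime_two⟩
  obtain ⟨⟨s, hsH⟩, hs⟩ := exists_prime_orderOf_dvd_card' 2 hHev
  rw [Subgroup.orderOf_mk] at hs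
  have hss : s * s = 1 := by rw [← sq, ← hs, pow_orderOf_eq_one]
  obtain ⟨x, hx⟩ : ∃ x : Ω, s • x ≠ x := by
    by_contra! h
    have : s = 1 := eq_of_smul_eq_smul fun x : Ω => by rw [h x, one_smul]
    rw [this, orderOf_one] at hs
    norm_num at hs
  obtain ⟨g, gx, gy⟩ := is_two_pretransitive_iff.mp (two_of_three h3 hpos.le) hx.symm hab
  have hFK : F ≤ K := Subgroup.map_subtype_le _
  let C : Config G Ω :=
    { H := H
      hH := hHn
      a := a
      b := b
      hab := hab
      U := U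
      hUH := hUH
      hUa := hUa
      hUn := hUn
      hUab := hcomm
      hreg := hreg
      F := F
      hFH := by
        rintro _ ⟨k, ⟨d, -, rfl⟩, rfl⟩
        exact d.2
      hFa := fun x hx => (hFK hx).1
      hFb := fun x hx => (hFK hx).2
      hFc := by
        haveI := hFc
        exact isCyclic_of_surjective _
          ((Subgroup.equivMapOfInjective (Cfsg.fittingSubgroup ↥D) _ D.subtype_injective).trans
            (Subgroup.equivMapOfInjective F₁ _ K.subtype_injective)).surjective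
      hFn := by
        intro g hg
        have hK' : ∀ x : G, x • a = a → x • b = b → (g * x * g⁻¹) • a = a ∧ (g * x * g⁻¹) • b = b := by
          intro x xa xb
          rcases hg with ⟨h1, h2⟩ | ⟨h1, h2⟩
          · rw [mul_smul, mul_smul, inv_smul_eq_iff.mpr h1.symm, xa, mul_smul, mul_smul,
              inv_smul_eq_iff.mpr h2.symm, xb]
            exact ⟨h1, h2⟩
          · rw [mul_smul, mul_smul, inv_smul_eq_iff.mpr h2.symm, xb, mul_smul, mul_smul,
              inv_smul_eq_iff.mpr h1.symm, xa]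
            exact ⟨h2, h1⟩
        have hK'' : ∀ x : G, x • a = a → x • b = b → (g⁻¹ * x * g) • a = a ∧ (g⁻¹ * x * g) • b = b := by
          intro x xa xb
          rcases hg with ⟨h1, h2⟩ | ⟨h1, h2⟩
          · rw [mul_smul, mul_smul, h1, xa, mul_smul, mul_smul, h2, xb, inv_smul_eq_iff, inv_smul_eq_iff]
            exact ⟨h1.symm, h2.symm⟩
          · rw [mul_smul, mul_smul, h1, xb, mul_smul, mul_smul, h2, xa, inv_smul_eq_iff, inv_smul_eq_iff]
            exact ⟨h1.symm, h2.symm⟩
        let φ : ↥D ≃* ↥D :=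
          { toFun := fun d => ⟨⟨g * d * g⁻¹, hK' _ d.1.2.1 d.1.2.2⟩, hHn.conj_mem _ d.2 g⟩
            invFun := fun d => ⟨⟨g⁻¹ * d * g, hK'' _ d.1.2.1 d.1.2.2⟩,
              show g⁻¹ * ((d : ↥K) : G) * g ∈ H by simpa using hHn.conj_mem _ d.2 g⁻¹⟩
            left_inv := fun d => by apply Subtype.ext; apply Subtype.ext; simp [mul_assoc]
            right_inv := fun d => by apply Subtype.ext; apply Subtype.ext; simp [mul_assoc]
            map_mul' := fun d e => by apply Subtype.ext; apply Subtype.ext; simp [mul_assoc] }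
        rintro _ ⟨k, ⟨d, hd, rfl⟩, rfl⟩
        have hch := Subgroup.characteristic_iff_map_eq.mp
          (inferInstance : (Cfsg.fittingSubgroup ↥D).Characteristic) φ
        exact ⟨_, ⟨φ d, hch ▸ Subgroup.mem_map_of_mem φ.toMonoidHom hd, rfl⟩, rfl⟩
      hsemi := by
        rintro _ ⟨k, ⟨d, hd, rfl⟩, rfl⟩ x hxa hxb hfix
        by_contra hne
        obtain ⟨u, hu, e⟩ := hexu hxa
        have h0 := hFsemi d hd (fun h => hne (by rw [h]; rfl)) (Additive.ofMul ⟨u, hu⟩) ?_
        · apply hxb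
          rw [← e, show u = 1 from congrArg (fun v : Additive U => (v.toMul : G)) h0, one_smul]
        · refine Additive.toMul.injective (Subtype.ext (hueq (ρ _ _).toMul.2 hu ?_))
          rw [hρa, mul_smul, mul_smul, inv_smul_eq_iff.mpr (show ((d : ↥K) : G) • b = b from d.1.2.2).symm]
          show ((d : ↥K) : G) • u • b = u • b
          rw [e]
          exact hfix
      hself := by
        intro x hxH hxa hxb hcomm'
        obtain ⟨d, rfl⟩ := hmemD hxH hxa hxb
        refine ⟨d, ⟨d, CfsgLib.centralizer_fitting_le (Subgroup.mem_centralizer_iff.mpr fun f hf => ?_), rfl⟩, rfl⟩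
        exact Subtype.ext (Subtype.ext (hcomm' _ ⟨f, ⟨f, hf, rfl⟩, rfl⟩).symm)
      hsq := by
        intro g ga gb hg2 x hx
        obtain ⟨k, hk, rfl⟩ := hx
        have h := commute_of_sq ρ hp2 hmodd F₁ ?_ (g := (⟨g, ga, gb⟩ : ↥K))
          (fun f hf => (inferInstance : F₁.Normal).conj_mem f hf _)
          (fun f hf => Subtype.ext (hg2 _ ⟨f, hf, rfl⟩)) k hk
        · exact congrArg Subtype.val h
        · rintro _ ⟨d, hd, rfl⟩ hne v hv
          exact hFsemi d hd (fun e => hne (by rw [e]; rfl)) v hv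
      htr := htrU
      t := g * s * g⁻¹
      htH := hHn.conj_mem s hsH g
      ht2 := by rw [show g * s * g⁻¹ * (g * s * g⁻¹) = g * (s * s) * g⁻¹ by group, hss]; group
      hta := by rw [mul_smul, mul_smul, inv_smul_eq_iff.mpr gx.symm, gy]
      htb := by
        rw [mul_smul, mul_smul, inv_smul_eq_iff.mpr gy.symm, ← mul_smul s s, hss, one_smul, gx] }
  have hno : ∀ e : ℕ, Fintype.card Ω ≠ 2 ^ e := fun e he => by
    have := Nat.prime_three.dvd_of_dvd_pow (he ▸ hdiv)
    norm_num at this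
  have hFne : C.F ≠ ⊥ := by
    intro hbot
    have hfix2 : ∀ h ∈ H, h • a = a → h • b = b → h = 1 := fun h hh ha hb => by
      have := C.hself h hh ha hb (fun f hf => by
        have hf1 : f = 1 := by rw [← Subgroup.mem_bot, ← hbot]; exact hf
        rw [hf1, mul_one, one_mul])
      rw [← Subgroup.mem_bot, ← hbot]; exact this
    haveI : FaithfulSMul H Ω := ⟨fun h => Subtype.ext (FaithfulSMul.eq_of_smul_eq_smul (α := Ω) h)⟩
    let φ := toPermHom H Ω
    haveI : IsMultiplyPretransitive φ.range Ω 2 := by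
      rw [is_two_pretransitive_iff]
      intro x y z w h1 h2
      obtain ⟨h, e1, e2⟩ := is_two_pretransitive_iff.mp hH2 h1 h2
      exact ⟨⟨φ h, h, rfl⟩, e1, e2⟩
    obtain ⟨q, j, hq, -, hn, -⟩ := Cfsg.Agent.S0680.result φ.range (fun x => by
      rw [Subgroup.eq_bot_iff_forall]
      rintro ⟨_, h, rfl⟩ hh
      have hh0 : φ h (x 0) = x 0 := DFunLike.congr_fun (MulAction.mem_stabilizer_iff.mp hh) 0
      have hh1 : φ h (x 1) = x 1 := DFunLike.congr_fun (MulAction.mem_stabilizer_iff.mp hh) 1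
      have hx01 : x 0 ≠ x 1 := fun e => absurd (x.injective e) (by decide)
      obtain ⟨l, la, lb⟩ := is_two_pretransitive_iff.mp hH2 hab hx01
      have h1 : ((l⁻¹ * h * l : H) : G) = 1 := hfix2 _ (l⁻¹ * h * l).2
        (show ((l⁻¹ * h * l : H)) • a = a by
          rw [mul_smul, mul_smul, la, show h • x 0 = x 0 from hh0, ← la, inv_smul_smul])
        (show ((l⁻¹ * h * l : H)) • b = b by
          rw [mul_smul, mul_smul, lb, show h • x 1 = x 1 from hh1, ← lb, inv_smul_smul])
      have h2 : h = 1 := by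
        have : l⁻¹ * h * l = 1 := Subtype.ext h1
        calc h = l * (l⁻¹ * h * l) * l⁻¹ := by group
          _ = 1 := by rw [this]; group
      subst h2
      exact Subtype.ext (map_one φ)) (by omega)
    have h2q := Nat.prime_two.dvd_of_dvd_pow (hn ▸ heven.two_dvd)
    have h3q := Nat.prime_three.dvd_of_dvd_pow (hn ▸ hdiv)
    rw [Nat.prime_dvd_prime_iff_eq Nat.prime_two hq] at h2q
    rw [Nat.prime_dvd_prime_iff_eq Nat.prime_three hq] at h3q
    omega
  have hle : Nat.card C.F ≤ Nat.card (colour H a b c) := by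
    refine Nat.card_le_card_of_injective (fun f : C.F =>
      (⟨(f : G) • c, (f : G), C.hFH f.2, C.hFa f.2, C.hFb f.2, rfl⟩ : colour H a b c)) fun f f' e => ?_
    have e' : ((f'⁻¹ * f : C.F) : G) • c = c := by
      rw [Subgroup.coe_mul, Subgroup.coe_inv, mul_smul, inv_smul_eq_iff]
      exact congrArg Subtype.val e
    have h1 := C.hsemi _ (f'⁻¹ * f).2 c hca hcb e'
    exact (inv_mul_eq_one.mp (Subtype.ext h1)).symm
  rcases C.main hno hFne with h | ⟨h, hN⟩
  · exact Or.inl (h.trans hle)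
  · exact Or.inr ⟨by omega, hN⟩

/-- The point stabiliser of the normal subgroup has odd order or order prime to three. -/
theorem stabiliser_case (h3 : IsMultiplyPretransitive G Ω 3) (hpos : 3 < Fintype.card Ω)
    (heven : Even (Fintype.card Ω)) (hdiv : 3 ∣ Fintype.card Ω) (H : Subgroup G) [hHn : H.Normal]
    (hH2 : IsMultiplyPretransitive H Ω 2) {a b c : Ω} (hab : a ≠ b) (hca : c ≠ a) (hcb : c ≠ b)
    (hSt : Odd (Nat.card ↥(H ⊓ stabilizer G a)) ∨ ¬ 3 ∣ Nat.card ↥(H ⊓ stabilizer G a)) :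
    Fintype.card Ω - 2 ≤ Nat.card (colour H a b c) ∨
      (Fintype.card Ω - 2 ≤ 2 * Nat.card (colour H a b c) ∧
        ∃ (N : Subgroup ↥H) (F : Type) (_ : Field F) (_ : Fintype F), N.Normal ∧
          Fintype.card F + 1 = Fintype.card Ω ∧
          Nonempty (↥N ≃* Matrix.ProjectiveSpecialLinearGroup (Fin 2) F)) := by
  classical
  set S := stabilizer G a with hS
  let X := SubMulAction.ofStabilizer G a
  haveI := two_of_three h3 hpos.le
  haveI : IsPretransitive G Ω := isPretransitive_of_is_two_pretransitive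
  haveI hS2 : IsMultiplyPretransitive S X 2 := SubMulAction.ofStabilizer.isMultiplyPretransitive.mp h3
  haveI hSf : FaithfulSMul S X := ⟨fun {g g'} h => Subtype.ext (eq_of_smul_eq_smul fun x : Ω => by
    by_cases hx : x = a
    · rw [hx, show (g : G) • a = a from g.2, show (g' : G) • a = a from g'.2]
    · exact congrArg Subtype.val (h (⟨x, hx⟩ : X)))⟩
  have hprim : IsPreprimitive S X := isPreprimitive_of_is_two_pretransitive hS2
  set N₀ := H.subgroupOf S with hN₀
  haveI : N₀.Normal := Subgroup.normal_subgroupOf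
  have hN₀ne : N₀ ≠ ⊥ := by
    intro hbot
    obtain ⟨h, h1, h2⟩ := is_two_pretransitive_iff.mp hH2 hab hca.symm
    have hh : (⟨(h : G), h1⟩ : S) ∈ N₀ := h.2
    rw [hbot, Subgroup.mem_bot] at hh
    have : (h : G) = 1 := congrArg Subtype.val hh
    have h2' : (h : G) • b = c := h2
    rw [this, one_smul] at h2'
    exact hcb h2'.symm
  obtain ⟨M, hMn, hMN, hM0, hMmin⟩ := CfsgLib.exists_minimal_normal hN₀ne
  haveI := hMn
  have hMdvd : Nat.card M ∣ Nat.card ↥(H ⊓ stabilizer G a) := by
    refine (Subgroup.card_dvd_of_le hMN).trans ?_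
    rw [← Subgroup.card_map_of_injective S.subtype_injective (K := N₀), hN₀, Subgroup.subgroupOf_map_subtype]
  have htrans : IsPretransitive M X := CfsgLib.PermNormal.pretransitive_of_normal hprim M hM0
  by_cases hMs : Group.IsSolvable M
  · obtain ⟨hMc, p, hp, hMp⟩ := CfsgLib.minimal_normal_elementary hM0 hMs hMmin
    set U := M.map S.subtype with hU
    refine affine_case h3 hpos heven hdiv H hH2 hab hSt U ?_ (Subgroup.map_subtype_le M) ?_ ?_ hp ?_ ?_ hca hcb
    · rintro _ ⟨u, hu, rfl⟩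
      exact hMN hu
    · rintro g hg _ ⟨u, hu, rfl⟩
      exact ⟨⟨g, hg⟩ * u * ⟨g, hg⟩⁻¹, hMn.conj_mem u hu _, rfl⟩
    · refine ⟨⟨?_⟩⟩
      rintro ⟨_, u, hu, rfl⟩ ⟨_, w, hw, rfl⟩
      exact Subtype.ext (congrArg (fun z : M => ((z : S) : G)) (hMc.is_comm.comm ⟨u, hu⟩ ⟨w, hw⟩))
    · rintro _ ⟨u, hu, rfl⟩
      rw [← map_pow, hMp u hu, map_one]
    · intro y z hy hz
      obtain ⟨w, hw⟩ := htrans.exists_smul_eq (⟨y, hy⟩ : X) ⟨z, hz⟩
      refine ⟨⟨((w : S) : G), (w : S), w.2, rfl⟩, congrArg Subtype.val hw, ?_⟩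
      rintro ⟨_, u, hu, rfl⟩ he
      have he' : (⟨u, hu⟩ : M) • (⟨y, hy⟩ : X) = w • (⟨y, hy⟩ : X) := (Subtype.ext he : _ = (⟨z, hz⟩ : X)).trans hw.symm
      have key : ((⟨u, hu⟩ : M) : S) = (w : S) := by
        refine eq_of_smul_eq_smul fun x : X => ?_
        obtain ⟨k, rfl⟩ := htrans.exists_smul_eq (⟨y, hy⟩ : X) x
        show (⟨u, hu⟩ : M) • k • (⟨y, hy⟩ : X) = w • k • (⟨y, hy⟩ : X)
        rw [← mul_smul, hMc.is_comm.comm, mul_smul, he', ← mul_smul, hMc.is_comm.comm, mul_smul]
      exact Subtype.ext (congrArg (fun z : S => (z : G)) key)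
  · exfalso
    rcases hSt with ho | h3'
    · exact hMs (CfsgLib.OddOrder.feitThompson (ho.of_dvd_nat hMdvd))
    let φ := toPermHom S X
    have hφ : Function.Injective φ := fun g g' e => eq_of_smul_eq_smul fun x : X => DFunLike.congr_fun e x
    let eS : S ≃* φ.range := MonoidHom.ofInjective hφ
    haveI : IsMultiplyPretransitive φ.range X 2 := by
      rw [is_two_pretransitive_iff]
      intro x y z w h1 h2
      obtain ⟨h, e1, e2⟩ := is_two_pretransitive_iff.mp hS2 h1 h2
      exact ⟨⟨φ h, h, rfl⟩, e1, e2⟩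
    haveI : (M.map eS.toMonoidHom).Normal := Subgroup.Normal.map hMn _ eS.surjective
    haveI hsimple : IsSimpleGroup M := by
      rcases Cfsg.Agent.S0700.result φ.range inferInstance (M.map eS.toMonoidHom)
        (fun e => hM0 ((Subgroup.map_eq_bot_iff_of_injective M eS.injective).mp e)) (fun J hJ hJM => by
          have hle : J.comap eS.toMonoidHom ≤ M := fun z hz => by
            obtain ⟨z', hz', e⟩ := hJM hz
            rwa [← eS.injective e]
          haveI := hJ
          rcases hMmin (J.comap eS.toMonoidHom) inferInstance hle with h | h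
          · left
            have h' := congrArg (Subgroup.map eS.toMonoidHom) h
            rw [Subgroup.map_bot] at h'
            exact (Subgroup.map_comap_eq_self_of_surjective (f := eS.toMonoidHom) eS.surjective J).symm.trans h'
          · right
            have h' := congrArg (Subgroup.map eS.toMonoidHom) h
            exact (Subgroup.map_comap_eq_self_of_surjective (f := eS.toMonoidHom) eS.surjective J).symm.trans h')
        with ⟨hc, -, -⟩ | ⟨hs, -⟩
      · exfalso
        refine hMs (Group.isSolvable_of_comm fun x y => ?_)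
        apply (M.equivMapOfInjective eS.toMonoidHom eS.injective).injective
        rw [map_mul, map_mul, hc.is_comm.comm]
      · haveI := hs
        exact (M.equivMapOfInjective eS.toMonoidHom eS.injective).isSimpleGroup
    have hna : ¬ IsMulCommutative M := fun h => hMs (Group.isSolvable_of_comm h.is_comm.comm)
    have hM3 : ¬ 3 ∣ Nat.card M := fun h => h3' (h.trans hMdvd)
    obtain ⟨F, iF, iFt, m, hm, hF, ⟨e⟩⟩ := exists_sz hna hM3
    set N := M.map S.subtype with hN
    let eN : M ≃* N := M.equivMapOfInjective _ S.subtype_injective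
    have hsz : Nonempty (↥N ≃* ↥(Cfsg.Lie.Sz F (2 ^ ((2 * m + 1 + 1) / 2)))) := by
      rw [show (2 * m + 1 + 1) / 2 = m + 1 by omega]
      exact ⟨eN.symm.trans e⟩
    rcases Cfsg.Agent.S2208.result (two_of_three h3 hpos.le) a N (Subgroup.map_subtype_le M)
      (fun g hg n hn => by
        obtain ⟨u, hu, rfl⟩ := hn
        exact ⟨⟨g, hg⟩ * u * ⟨g, hg⟩⁻¹, hMn.conj_mem u hu _, rfl⟩)
      ⟨F, iF, iFt, 2 * m + 1, hF, by omega, Or.inr (Or.inl ⟨⟨m, rfl⟩, hsz⟩)⟩ with
      ⟨-, -, F', iF', iFt', hF', ⟨e'⟩⟩ | ⟨h11, -, -⟩ | ⟨R, hRn, hRt, hRr⟩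
    · obtain ⟨e5⟩ := Cfsg.Agent.S0252.result (F := F') hF'
      apply hM3
      rw [Nat.card_congr ((eN.trans e').trans e5).toEquiv, nat_card_alternatingGroup, Nat.card_eq_fintype_card,
        Fintype.card_fin]
      norm_num [Nat.factorial]
    · rw [h11] at heven
      exact absurd heven (by decide)
    · haveI := hRn
      refine no_regular_normal h3 hpos heven hdiv R ⟨fun x y => ?_⟩ fun x => ?_
      · obtain ⟨r, hr, e⟩ := hRt x y
        exact ⟨⟨r, hr⟩, e⟩
      · rw [Subgroup.eq_bot_iff_forall]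
        exact fun r hr => Subtype.ext (hRr x r r.2 hr)

end Basic

end CfsgLib.BannaiThree
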